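import Cfsg.Agent.H880.HM.LinF

/-!
# S5175, T4/T5 linear part, G (for helper756): the end

* `linOne` : one block: `LinOne`;
* `off_lin` : the conclusion of `StOff` for a `Blk` of linear type;
* `bd_lin` : the conclusion of `StBD` for a `Blk` of linear type.
-/

set_option autoImplicit false
set_option linter.unusedSectionVars false

namespace Cfsg.Agent.H880.HM

open Cfsg Subgroup Cfsg.Agent.H756.HM
open scoped commutatorElement

universe u

/-- the first alternative of `Blk.typ` -/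
def LinTyp {P : Type u} [Group P] {T : Subgroup P} (b : Blk T) : Prop :=
  ∃ (K : Type) (_ : Field K) (_ : Fintype K) (n : ℕ), 2 ≤ n ∧ Fintype.card K = 2 ^ n ∧
      ∀ i, ∃ (ρ : ↥(b.E i) →* Matrix.SpecialLinearGroup (Fin 2) K)
        (ψ : ↥(⁅pCore 2 P, b.E i⁆ : Subgroup P) →* Multiplicative (Fin 2 → K)),
        Function.Surjective ρ ∧
        (∀ e, ρ e = 1 ↔ (e : P) ∈ ⁅pCore 2 P, b.E i⁆) ∧ Function.Surjective ψ ∧
        (∀ w, ψ w = 1 ↔ (w : P) ∈ Subgroup.centralizer (b.E i : Set P)) ∧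
        ∀ (e : b.E i) (w w' : ↥(⁅pCore 2 P, b.E i⁆ : Subgroup P)), (w' : P) = (e : P) * w * (e : P)⁻¹ →
          Multiplicative.toAdd (ψ w') =
            ((ρ e : Matrix.SpecialLinearGroup (Fin 2) K) : Matrix (Fin 2) (Fin 2) K).mulVec
              (Multiplicative.toAdd (ψ w))

section

variable {P : Type u} [Group P] [Finite P] {T : Sylow 2 P} {b : Blk (T : Subgroup P)} {K : Type} [Field K]
  (L : LD b K)

/-- **One block.** -/
theorem linOne [Fintype K] {n : ℕ} (hn : 1 ≤ n) (hK : Fintype.card K = 2 ^ n) {i : b.I} (hI : ∀ j : b.I, j = i) :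
    LinOne P (WW P) (TT L) (Fintype.card K) := by
  classical
  have hfin : Finite b.I := b.fin
  have hR : pResidual 2 P = b.E i := by
    apply le_antisymm _ (E_le b i)
    rw [← b.sup]
    exact iSup_le fun j => by rw [hI j]
  have hsur : ∀ v : Fin 2 → K, ∃ w ∈ WW P, L.Ψ i w = v := by
    intro v
    obtain ⟨w, hw, hv⟩ := (L.one i).ψsurj v
    exact ⟨w, Wi_le_WW b i hw, hv⟩
  have hRn : (pResidual 2 P).Normal := Cfsg.Agent.Transfer.Residual.pResidual_normal (G := P) 2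
  have hdec : ∀ g ∈ pResidual 2 P ⊔ TT L, ∃ r ∈ b.E i, ∃ t ∈ TT L, g = r * t := by
    intro g hg
    rw [← SetLike.mem_coe, Subgroup.normal_mul] at hg
    obtain ⟨r, hr, t, ht, rfl⟩ := Set.mem_mul.1 hg
    rw [SetLike.mem_coe, hR] at hr
    exact ⟨r, hr, t, ht, rfl⟩
  have hex : ∀ g : ↥(pResidual 2 P ⊔ TT L), ∃ m : Matrix.SpecialLinearGroup (Fin 2) K, ∀ w ∈ WW P,
      L.Ψ i ((g : P) * w * (g : P)⁻¹) = sm m (L.Ψ i w) := by
    rintro ⟨g, hg⟩
    obtain ⟨r, hr, t, ht, rfl⟩ := hdec g hg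
    obtain ⟨c, hc⟩ := ht.2 i
    refine ⟨L.ρ i r * uu c, fun w hw => ?_⟩
    have h1 : (r * t) * w * (r * t)⁻¹ = r * (t * w * t⁻¹) * r⁻¹ := by group
    show L.Ψ i ((r * t) * w * (r * t)⁻¹) = _
    rw [h1, (L.one i).equi r hr _ (conj_WW hw t), hc w hw, sm_mul]
  choose f hf using hex
  have huniq : ∀ (g : ↥(pResidual 2 P ⊔ TT L)) (m : Matrix.SpecialLinearGroup (Fin 2) K),
      (∀ w ∈ WW P, L.Ψ i ((g : P) * w * (g : P)⁻¹) = sm m (L.Ψ i w)) → f g = m := by
    intro g m hm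
    apply ext_sm
    intro v
    obtain ⟨w, hw, rfl⟩ := hsur v
    rw [← hf g w hw, hm w hw]
  let ρ : ↥(pResidual 2 P ⊔ TT L) →* Matrix.SpecialLinearGroup (Fin 2) K :=
    { toFun := f
      map_one' := huniq 1 1 fun w hw => by
        show L.Ψ i (1 * w * 1⁻¹) = _
        rw [one_mul, inv_one, mul_one, sm_one]
      map_mul' := fun g g' => huniq _ _ fun w hw => by
        have h1 : ((g : P) * (g' : P)) * w * ((g : P) * (g' : P))⁻¹ = (g : P) * ((g' : P) * w * (g' : P)⁻¹) * (g : P)⁻¹ := by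
          group
        show L.Ψ i (((g : P) * (g' : P)) * w * ((g : P) * (g' : P))⁻¹) = _
        rw [h1, hf g _ (conj_WW hw _), hf g' w hw, sm_mul] }
  let ψ : ↥(WW P) →* Multiplicative (Fin 2 → K) :=
    { toFun := fun w => Multiplicative.ofAdd (L.Ψ i w)
      map_one' := by
        show Multiplicative.ofAdd (L.Ψ i 1) = 1
        rw [L.zero]
        rfl
      map_mul' := fun w w' => by
        show Multiplicative.ofAdd (L.Ψ i ((w : P) * w')) = _
        rw [(L.one i).ψmul _ w.2 _ w'.2]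
        rfl }
  refine ⟨K, inferInstance, inferInstance, n, hn, hK, rfl, ρ, ψ, ?_, ?_, ?_, ?_, ?_⟩
  · intro m
    obtain ⟨e, he, hem⟩ := (L.one i).ρsurj m
    refine ⟨⟨e, (le_sup_left : pResidual 2 P ≤ _) (E_le b i he)⟩, ?_⟩
    apply huniq
    intro w hw
    rw [← hem]
    exact (L.one i).equi e he w hw
  · intro g
    constructor
    · intro h
      obtain ⟨r, hr, t, ht, hgrt⟩ := hdec g g.2
      obtain ⟨c, hc⟩ := ht.2 i
      have h1 : L.ρ i r * uu c = 1 := by
        have h2 := huniq g (L.ρ i r * uu c) (fun w hw => by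
          have h1 : (r * t) * w * (r * t)⁻¹ = r * (t * w * t⁻¹) * r⁻¹ := by group
          rw [hgrt, h1, (L.one i).equi r hr _ (conj_WW hw t), hc w hw, sm_mul])
        rw [← h2]
        exact h
      have h2 : L.ρ i r = uu (-c) := by
        rw [← uu_inv]
        exact eq_inv_of_mul_eq_one_left h1
      obtain ⟨e, he, heT, hec⟩ := (L.one i).UT (-c)
      have h3 : e⁻¹ * r ∈ ⁅pCore 2 P, b.E i⁆ := by
        rw [← (L.one i).ρker _ (mul_mem (inv_mem he) hr)]
        have h4 := (L.one i).ρmul e he (e⁻¹ * r) (mul_mem (inv_mem he) hr)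
        rw [mul_inv_cancel_left, h2, hec] at h4
        exact (left_eq_mul.1 h4)
      have h4 : r ∈ (T : Subgroup P) := by
        have h5 := mul_mem heT (WW_le_T (Wi_le_WW b i h3))
        rwa [mul_inv_cancel_left] at h5
      have hgT : (g : P) ∈ (T : Subgroup P) := by
        rw [hgrt]
        exact mul_mem h4 ht.1
      apply L.mem_Q hgT
      intro j
      rw [hI j]
      intro w hw
      rw [hf g w hw]
      have h5 : f g = 1 := h
      rw [h5, uu_zero]
    · intro h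
      apply huniq
      intro w hw
      rw [L.acts_Q i h w hw, uu_zero]
  · intro v
    obtain ⟨w, hw, hv⟩ := hsur (Multiplicative.toAdd v)
    refine ⟨⟨w, hw⟩, ?_⟩
    show Multiplicative.ofAdd (L.Ψ i w) = v
    rw [hv]
    rfl
  · intro w
    have h1 : ψ w = 1 ↔ L.Ψ i w = 0 := Iff.rfl
    rw [h1, (L.one i).ψker _ w.2, hR]
  · intro e w w' hww
    show L.Ψ i w' = sm (f e) (L.Ψ i w)
    rw [hww]
    exact hf e w w.2

/-- **The block data.** -/
theorem exists_bd [Fintype K] [CharP K 2] {n : ℕ} (hn : 1 ≤ n) (hK : Fintype.card K = 2 ^ n) {X : Subgroup P}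
    (h : Off T X) (D : EqD L X) : Nonempty (BD (T : Subgroup P)) := by
  classical
  have hfin : Finite b.I := b.fin
  obtain ⟨i₀⟩ := b.ne
  have hq2 : 2 ≤ Fintype.card K := by
    rw [hK]
    calc 2 = 2 ^ 1 := rfl
      _ ≤ 2 ^ n := Nat.pow_le_pow_right (by norm_num) hn
  refine ⟨{
    W := WW P
    hW := rfl
    T0 := TT L
    q := Fintype.card K
    q_ge := hq2
    W_le := WW_le_Q
    W_normal := WW_normal
    W_comm := b.bw.W_comm
    W_sq := b.bw.W_sq
    QK := le_rfl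
    CTW := b.bw.CTW
    Q_le_T0 := Q_le_TT L
    T0_le := fun t ht => ht.1
    T0_ne := ?_
    off := ?_
    off_eq := ?_
    cent := fun t ht hta => cent_TT L ht hta
    coord := ?_
    J := b.I
    A := AA L
    B := BB L
    E := b.E
    Jne := b.ne
    QA := Q_le_AA L
    QB := Q_le_BB L
    AB := AA_sup_BB L
    Acard := relIndex_AA L
    Bcard := relIndex_BB L
    E_le := E_le b
    WB := fun j w hw t ht => WB_comm L hw ht
    EB := fun j w hw t ht e he => EB_comm L hw ht he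
    Aa := ?_
    wa := ?_
    irr := fun j Y hY hn' hc => irr_E L hY hn' hc
    Wsup := ?_
    dich := ?_ }⟩
  · intro hcon
    obtain ⟨e, he, heA, hec⟩ := exists_E L i₀ 1
    have h1 : e ∈ pCore 2 P := by rw [← hcon]; exact heA.1
    exact zero_ne_one ((L.acts_Q i₀ h1).uniq hec)
  · intro Y hY1 hY2 hY3 _
    exact off_bound L ⟨hY1, hY2, hY3⟩
  · intro Y hY1 hY2 hY3 _ hle
    by_cases hYQ : Y ≤ pCore 2 P
    · exact Or.inl hYQ
    · have hY : Off T Y := ⟨hY1, hY2, hY3⟩
      exact Or.inr (sup_eq_TT L hY (exists_eqd L hY hYQ hle))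
  · refine ⟨{ carrier := {w | w ∈ WW P ∧ L.Ψ i₀ w 1 = 0}
              one_mem' := ⟨one_mem _, by rw [L.zero]; rfl⟩
              mul_mem' := by
                rintro x y ⟨hx, hx'⟩ ⟨hy, hy'⟩
                refine ⟨mul_mem hx hy, ?_⟩
                rw [(L.one i₀).ψmul _ hx _ hy, Pi.add_apply, hx', hy', add_zero]
              inv_mem' := by
                rintro x ⟨hx, hx'⟩
                refine ⟨inv_mem hx, ?_⟩
                rw [L.inv i₀ hx, Pi.neg_apply, hx', neg_zero] }, BB L i₀, ?_, ?_, Q_le_BB L i₀, ?_, ?_⟩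
    · rintro w ⟨hw, hw'⟩
      exact ⟨hw, (cent_iff L h D hw).1 hw' i₀⟩
    · intro hcon
      obtain ⟨w, hw, hv⟩ := (L.one i₀).ψsurj ![0, 1]
      have h1 := (hcon (Wi_le_WW b i₀ hw)).2
      rw [hv] at h1
      exact one_ne_zero h1
    · intro hcon
      obtain ⟨e, he, heA, hec⟩ := exists_E L i₀ 1
      exact zero_ne_one ((hcon heA.1).2.uniq hec)
    · intro w hw t ht hwt
      obtain ⟨c, hc⟩ := ht.2 i₀
      by_cases hc0 : c = 0
      · right
        rw [hc0] at hc
        exact ⟨ht, hc⟩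
      · left
        refine ⟨hw, ?_⟩
        have h2 : ⁅t, w⁆ ∈ centralizer (pResidual 2 P : Set P) := by
          rw [← commutatorElement_inv]
          exact inv_mem hwt
        have h3 := (L.mem_cent (com_WW (a := t) hw)).2 h2 i₀
        have h4 : ⁅t, w⁆ = t * w * t⁻¹ * w⁻¹ := rfl
        rw [h4, (L.one i₀).ψmul _ (conj_WW hw t) _ (inv_mem hw), L.inv i₀ hw, ← sub_eq_add_neg, sub_eq_zero,
          hc w hw] at h3
        exact (fix_uu hc0).1 h3
  · intro j a ha haQ
    refine ⟨?_, index_a L h D ha haQ⟩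
    intro w hw
    obtain ⟨x, hx, y, hy, hy', rfl⟩ := decomp b j hw
    refine mul_mem ((le_sup_left : ⁅pCore 2 P, b.E j⁆ ≤ _) hx)
      ((le_sup_right : WW P ⊓ centralizer ({a} : Set P) ≤ _) ⟨hy, ?_⟩)
    refine (cent_a L h D ha haQ hy).2 ?_
    rw [((L.one j).ψker y hy).2 hy']
    rfl
  · intro j w hw hwT a ha haQ hcon
    have hwW := Wi_le_WW b j hw
    apply hwT
    rw [cent_iff L h D hwW]
    intro i
    by_cases hij : i = j
    · rw [hij]
      obtain ⟨c, hc⟩ := ha.1.2 j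
      have hc0 : c ≠ 0 := by
        rintro rfl
        exact haQ (mem_Q_of_AA L ha hc)
      have h2 : ⁅a, w⁆ ∈ centralizer (b.E j : Set P) := by
        rw [← commutatorElement_inv]
        exact inv_mem hcon
      have h3 := ((L.one j).ψker _ (com_WW (a := a) hwW)).2 h2
      have h4 : ⁅a, w⁆ = a * w * a⁻¹ * w⁻¹ := rfl
      rw [h4, (L.one j).ψmul _ (conj_WW hwW a) _ (inv_mem hwW), L.inv j hwW, ← sub_eq_add_neg, sub_eq_zero,
        hc w hwW] at h3
      exact (fix_uu hc0).1 h3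
    · rw [L.other hij hw]
      rfl
  · rw [← WW_eq b]
    exact le_sup_right
  · by_cases hI : ∀ j : b.I, j = i₀
    · exact Or.inr (linOne L hn hK hI)
    · left
      push Not at hI
      obtain ⟨j₀, hj₀⟩ := hI
      intro j hcon
      obtain ⟨k, hk⟩ : ∃ k, k ≠ j := by
        by_cases h1 : j = i₀
        · exact ⟨j₀, by rw [h1]; exact hj₀⟩
        · exact ⟨i₀, fun h2 => h1 h2.symm⟩
      obtain ⟨e, he, heA, hec⟩ := exists_E L k 1
      have h1 : e ∈ BB L j := ⟨heA.1, heA.2 j (Ne.symm hk)⟩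
      rw [hcon] at h1
      exact zero_ne_one ((L.acts_Q k h1).uniq hec)

end

/-- **T4, linear type.** -/
theorem off_lin {P : Type u} [Group P] [Finite P] (T : Sylow 2 P) (b : Blk (T : Subgroup P)) (hb : LinTyp b)
    (X : Subgroup P) (hX : X ≤ T) (hn : (T : Subgroup P) ≤ Subgroup.normalizer (X : Set P))
    (hc : ∀ a ∈ X, ∀ b ∈ X, a * b = b * a) :
    (pCore 2 P ⊓ X).relIndex X ≤
      (⁅pCore 2 P, pResidual 2 P⁆ ⊓ Subgroup.centralizer (X : Set P)).relIndex ⁅pCore 2 P, pResidual 2 P⁆ := by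
  obtain ⟨K, _, _, n, hn2, hK, hb⟩ := hb
  obtain ⟨L⟩ := exists_ld b hK hb
  have := charP_of_card hK
  have hfin : Finite b.I := b.fin
  exact off_bound L ⟨hX, hn, hc⟩

/-- **T5, linear type.** -/
theorem bd_lin {P : Type u} [Group P] [Finite P] (T : Sylow 2 P) (b : Blk (T : Subgroup P)) (hb : LinTyp b)
    (X : Subgroup P) (hX : X ≤ T) (hn : (T : Subgroup P) ≤ Subgroup.normalizer (X : Set P))
    (hc : ∀ a ∈ X, ∀ b ∈ X, a * b = b * a) (hXQ : ¬ X ≤ pCore 2 P)
    (hle : (⁅pCore 2 P, pResidual 2 P⁆ ⊓ Subgroup.centralizer (X : Set P)).relIndex ⁅pCore 2 P, pResidual 2 P⁆ ≤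
      (pCore 2 P ⊓ X).relIndex X) :
    Nonempty (BD (T : Subgroup P)) := by
  obtain ⟨K, _, _, n, hn2, hK, hb⟩ := hb
  obtain ⟨L⟩ := exists_ld b hK hb
  have := charP_of_card hK
  have hfin : Finite b.I := b.fin
  exact exists_bd L (by omega) hK ⟨hX, hn, hc⟩ (exists_eqd L ⟨hX, hn, hc⟩ hXQ hle)

end Cfsg.Agent.H880.HM
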