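import Cfsg.Agent.H756.HM.Defs
import Cfsg.Agent.H880.HM.LinA
import Cfsg.Agent.H259.Block
import Cfsg.Agent.Transfer.Residual

/-!
# S5175, T4/T5 linear part, B (for helper756): blocks

* basic facts on a `Blk`;
* `LD b K` : normalized linear data, `exists_ld` : they exist for a `Blk` of linear type.
-/

set_option autoImplicit false
set_option linter.unusedSectionVars false

namespace Cfsg.Agent.H880.HM

open Cfsg Subgroup Cfsg.Agent.H756.HM
open Cfsg.Agent.H259.Block (pCoreOf_le)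
open scoped commutatorElement

universe u

section Blocks

variable {P : Type u} [Group P] [Finite P] {T : Sylow 2 P} (b : Blk (T : Subgroup P))

/-- `W = [O₂(P), O²(P)]` -/
abbrev WW (P : Type u) [Group P] : Subgroup P := ⁅pCore 2 P, pResidual 2 P⁆

theorem fact2 : Fact (Nat.Prime 2) := ⟨Nat.prime_two⟩

include b

theorem Wi_le (i : b.I) : ⁅pCore 2 P, b.E i⁆ ≤ b.E i := by
  rw [← b.core i]
  exact pCoreOf_le _

theorem E_le (i : b.I) : b.E i ≤ pResidual 2 P := by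
  rw [← b.sup]
  exact le_iSup b.E i

theorem Wi_le_WW (i : b.I) : ⁅pCore 2 P, b.E i⁆ ≤ WW P := commutator_mono le_rfl (E_le b i)

omit b in
theorem WW_le_Q : WW P ≤ pCore 2 P := by
  have := Lib.Cores.pCore_normal (G := P) 2
  exact commutator_le_left _ _

omit b in
theorem Q_le_T : pCore 2 P ≤ (T : Subgroup P) := Lib.Cores.pCore_le_sylow T

omit b in
theorem WW_le_T : WW P ≤ (T : Subgroup P) := WW_le_Q.trans Q_le_T

theorem W_comm' {w w' : P} (hw : w ∈ WW P) (hw' : w' ∈ WW P) : w * w' = w' * w :=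
  b.bw.W_comm w hw w' (WW_le_Q hw')

theorem W_commQ {w g : P} (hw : w ∈ WW P) (hg : g ∈ pCore 2 P) : w * g = g * w := b.bw.W_comm w hw g hg

omit b in
theorem WW_normal : (WW P).Normal := by
  have := Lib.Cores.pCore_normal (G := P) 2
  have : (pResidual 2 P).Normal := Cfsg.Agent.Transfer.Residual.pResidual_normal (G := P) 2
  exact commutator_normal _ _

omit b in
theorem conj_WW {w : P} (hw : w ∈ WW P) (g : P) : g * w * g⁻¹ ∈ WW P := WW_normal.conj_mem w hw g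

theorem E_commE {i j : b.I} (hij : i ≠ j) {x y : P} (hx : x ∈ b.E i) (hy : y ∈ b.E j) : x * y = y * x := by
  have h1 : b.E i ≤ centralizer (b.E j : Set P) := commutator_eq_bot_iff_le_centralizer.1 (b.comm i j hij)
  exact ((h1 hx) y hy).symm

/-- `Q` normalizes every block... at least `[Q, E_i] ≤ E_i`, so `g e g⁻¹ ∈ E_i` -/
theorem conjQ_E {i : b.I} {g e : P} (hg : g ∈ pCore 2 P) (he : e ∈ b.E i) : g * e * g⁻¹ ∈ b.E i := by
  have h1 : ⁅g, e⁆ ∈ b.E i := Wi_le b i (commutator_mem_commutator hg he)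
  have h2 : g * e * g⁻¹ = ⁅g, e⁆ * e := by rw [commutatorElement_def]; group
  rw [h2]
  exact mul_mem h1 he

theorem conjE_Wi {i : b.I} {e w : P} (he : e ∈ b.E i) (hw : w ∈ ⁅pCore 2 P, b.E i⁆) :
    e * w * e⁻¹ ∈ ⁅pCore 2 P, b.E i⁆ := by
  have hn : b.E i ≤ normalizer ((⁅pCore 2 P, b.E i⁆ : Subgroup P) : Set P) := by
    apply H259.Block.le_normalizer_commutator
    · exact H259.Block.le_normalizer_of_normal (Lib.Cores.pCore_normal 2) _
    · exact le_normalizer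
  exact (mem_normalizer_iff.1 (hn he) w).1 hw

/-- `E_j` centralizes `W_i`, `i ≠ j` -/
theorem EW_comm {i j : b.I} (hij : i ≠ j) {w x : P} (hw : w ∈ ⁅pCore 2 P, b.E i⁆) (hx : x ∈ b.E j) :
    w * x = x * w := E_commE b hij (Wi_le b i hw) hx

theorem WW_eq : WW P = ⨆ i, ⁅pCore 2 P, b.E i⁆ := by
  apply le_antisymm
  · set M : Subgroup P := ⨆ i, ⁅pCore 2 P, b.E i⁆ with hM
    have hn : ∀ j, ∀ x ∈ b.E j, ∀ m ∈ M, x * m * x⁻¹ ∈ M := by
      intro j x hx m hm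
      rw [hM] at hm ⊢
      induction hm using Subgroup.iSup_induction' with
      | hp i m hm =>
        by_cases hij : i = j
        · subst hij
          exact (le_iSup (fun i => ⁅pCore 2 P, b.E i⁆) i) (conjE_Wi b hx hm)
        · rw [← EW_comm b hij hm hx, mul_inv_cancel_right]
          exact (le_iSup (fun i => ⁅pCore 2 P, b.E i⁆) i) hm
      | h1 => rw [mul_one, mul_inv_cancel]; exact one_mem _
      | hmul a c _ _ ha hc =>
        have h1 : x * (a * c) * x⁻¹ = (x * a * x⁻¹) * (x * c * x⁻¹) := by group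
        rw [h1]
        exact mul_mem ha hc
    rw [WW, commutator_le]
    intro g hg x hx
    rw [← b.sup] at hx
    have key : ∀ x ∈ (⨆ i, b.E i), (∀ m ∈ M, x * m * x⁻¹ ∈ M) ∧ ∀ g ∈ pCore 2 P, ⁅g, x⁆ ∈ M := by
      intro x hx
      induction hx using Subgroup.iSup_induction' with
      | hp i x hx =>
        exact ⟨fun m hm => hn i x hx m hm, fun g hg =>
          (le_iSup (fun i => ⁅pCore 2 P, b.E i⁆) i) (commutator_mem_commutator hg hx)⟩
      | h1 => exact ⟨fun m hm => by simpa using hm, fun g _ => by simp⟩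
      | hmul x y _ _ hx hy =>
        refine ⟨fun m hm => ?_, fun g hg => ?_⟩
        · have h1 : x * y * m * (x * y)⁻¹ = x * (y * m * y⁻¹) * x⁻¹ := by group
          rw [h1]
          exact hx.1 _ (hy.1 m hm)
        · have h1 : ⁅g, x * y⁆ = ⁅g, x⁆ * (x * ⁅g, y⁆ * x⁻¹) := by
            simp only [commutatorElement_def]; group
          rw [h1]
          exact mul_mem (hx.2 g hg) (hx.1 _ (hy.2 g hg))
    exact (key x hx).2 g hg
  · exact iSup_le fun i => Wi_le_WW b i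

/-- **Decomposition** with respect to a block -/
theorem decomp (i : b.I) {w : P} (hw : w ∈ WW P) :
    ∃ a ∈ ⁅pCore 2 P, b.E i⁆, ∃ c ∈ WW P, c ∈ centralizer (b.E i : Set P) ∧ w = a * c := by
  rw [WW_eq b] at hw
  induction hw using Subgroup.iSup_induction' with
  | hp j w hw =>
    by_cases hij : j = i
    · subst hij
      exact ⟨w, hw, 1, one_mem _, one_mem _, (mul_one w).symm⟩
    · refine ⟨1, one_mem _, w, Wi_le_WW b j hw, ?_, (one_mul w).symm⟩
      intro x hx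
      exact (EW_comm b hij hw hx).symm
  | h1 => exact ⟨1, one_mem _, 1, one_mem _, one_mem _, (mul_one 1).symm⟩
  | hmul x y _ _ hx hy =>
    obtain ⟨a, ha, c, hc, hc', rfl⟩ := hx
    obtain ⟨a', ha', d, hd, hd', rfl⟩ := hy
    refine ⟨a * a', mul_mem ha ha', c * d, mul_mem hc hd, mul_mem hc' hd', ?_⟩
    have h1 : c * a' = a' * c := W_comm' b hc (Wi_le_WW b i ha')
    calc a * c * (a' * d) = a * (c * a') * d := by group
      _ = a * a' * (c * d) := by rw [h1]; group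

/-- `O²(P) = E_i C(E_i)` -/
theorem decompR (i : b.I) {r : P} (hr : r ∈ pResidual 2 P) :
    ∃ e ∈ b.E i, ∃ k ∈ centralizer (b.E i : Set P), r = e * k := by
  rw [← b.sup] at hr
  induction hr using Subgroup.iSup_induction' with
  | hp j w hw =>
    by_cases hij : j = i
    · subst hij
      exact ⟨w, hw, 1, one_mem _, (mul_one w).symm⟩
    · refine ⟨1, one_mem _, w, ?_, (one_mul w).symm⟩
      intro x hx
      exact (E_commE b hij hw hx).symm
  | h1 => exact ⟨1, one_mem _, 1, one_mem _, (mul_one 1).symm⟩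
  | hmul x y _ _ hx hy =>
    obtain ⟨a, ha, c, hc, rfl⟩ := hx
    obtain ⟨a', ha', d, hd, rfl⟩ := hy
    refine ⟨a * a', mul_mem ha ha', c * d, mul_mem hc hd, ?_⟩
    have h1 : c * a' = a' * c := (hc a' ha').symm
    calc a * c * (a' * d) = a * (c * a') * d := by group
      _ = a * a' * (c * d) := by rw [h1]; group

/-- **2-subgroups of a block are conjugate in the block into `T`.** -/
theorem exists_conj (i : b.I) {H : Subgroup P} (hH : IsPGroup 2 H) (hHE : H ≤ b.E i) :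
    ∃ k ∈ b.E i, ∀ h ∈ H, k⁻¹ * h * k ∈ (T : Subgroup P) := by
  have := fact2
  obtain ⟨R, hR⟩ := hH.exists_le_sylow
  obtain ⟨g, hg⟩ := MulAction.exists_smul_eq P T R
  have h1 : ∀ h ∈ H, g⁻¹ * h * g ∈ (T : Subgroup P) := by
    intro h hh
    have h2 := hR hh
    rw [← hg, Sylow.coe_subgroup_smul] at h2
    obtain ⟨t, ht, hte⟩ := h2
    have h3 : g * t * g⁻¹ = h := hte
    rw [← h3]
    have h4 : g⁻¹ * (g * t * g⁻¹) * g = t := by group
    rw [h4]
    exact ht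
  have hRn : (pResidual 2 P).Normal := Cfsg.Agent.Transfer.Residual.pResidual_normal (G := P) 2
  have hgm : g ∈ pResidual 2 P ⊔ (T : Subgroup P) := by
    rw [Cfsg.Agent.Transfer.Residual.pResidual_sup_sylow]
    exact mem_top g
  rw [← SetLike.mem_coe, Subgroup.normal_mul] at hgm
  obtain ⟨r, hr, t, ht, rfl⟩ := Set.mem_mul.1 hgm
  obtain ⟨e, he, k, hk, rfl⟩ := decompR b i hr
  refine ⟨e, he, fun h hh => ?_⟩
  have h2 := h1 h hh
  have h3 : e⁻¹ * h * e ∈ b.E i := mul_mem (mul_mem (inv_mem he) (hHE hh)) he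
  have h4 : k⁻¹ * (e⁻¹ * h * e) * k = e⁻¹ * h * e := by
    have h5 := hk _ h3
    rw [mul_assoc, h5, inv_mul_cancel_left]
  have h6 : (e * k * t)⁻¹ * h * (e * k * t) = t⁻¹ * (k⁻¹ * (e⁻¹ * h * e) * k) * t := by group
  rw [h6, h4] at h2
  have h7 := mul_mem (mul_mem ht h2) (inv_mem ht)
  have h8 : t * (t⁻¹ * (e⁻¹ * h * e) * t) * t⁻¹ = e⁻¹ * h * e := by group
  rwa [h8] at h7

end Blocks

/-- Normalized linear data of one block: `Ψ` is the action on `W / C_W(E_i)`, `ρ` the action on `K²`; `T ∩ E_i` maps onto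
the upper unitriangular matrices. -/
structure LOne {P : Type u} [Group P] {T : Sylow 2 P} (b : Blk (T : Subgroup P)) (K : Type) [Field K] (i : b.I)
    (Ψ : P → (Fin 2 → K)) (ρ : P → Matrix.SpecialLinearGroup (Fin 2) K) : Prop where
  ψmul : ∀ w ∈ WW P, ∀ w' ∈ WW P, Ψ (w * w') = Ψ w + Ψ w'
  ψker : ∀ w ∈ WW P, (Ψ w = 0 ↔ w ∈ centralizer (b.E i : Set P))
  ψsurj : ∀ v, ∃ w ∈ ⁅pCore 2 P, b.E i⁆, Ψ w = v
  ρmul : ∀ e ∈ b.E i, ∀ e' ∈ b.E i, ρ (e * e') = ρ e * ρ e'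
  ρsurj : ∀ m, ∃ e ∈ b.E i, ρ e = m
  ρker : ∀ e ∈ b.E i, (ρ e = 1 ↔ e ∈ ⁅pCore 2 P, b.E i⁆)
  equi : ∀ e ∈ b.E i, ∀ w ∈ WW P, Ψ (e * w * e⁻¹) = sm (ρ e) (Ψ w)
  TU : ∀ e ∈ b.E i, e ∈ (T : Subgroup P) → ∃ c, ρ e = uu c
  UT : ∀ c, ∃ e ∈ b.E i, e ∈ (T : Subgroup P) ∧ ρ e = uu c

/-- the action of `SL₂(K)` on `K²` -/
abbrev actSL (K : Type*) [Field K] : MulAction (Matrix.SpecialLinearGroup (Fin 2) K) (Fin 2 → K) where
  smul m v := sm m v
  one_smul v := sm_one v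
  mul_smul m n v := sm_mul m n v

/-- a 2-subgroup of `SL₂(K)` fixes a nonzero vector -/
theorem exists_fix {K : Type*} [Field K] [Finite K] [CharP K 2] {R : Subgroup (Matrix.SpecialLinearGroup (Fin 2) K)}
    (hR : IsPGroup 2 R) : ∃ v : Fin 2 → K, v ≠ 0 ∧ ∀ r ∈ R, sm r v = v := by
  classical
  have := fact2
  have : Fintype K := Fintype.ofFinite K
  let _ : MulAction (Matrix.SpecialLinearGroup (Fin 2) K) (Fin 2 → K) := actSL K
  have hcard : 2 ∣ Nat.card (Fin 2 → K) := by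
    obtain ⟨n, _, hn⟩ := FiniteField.card K 2
    rw [Nat.card_fun, Nat.card_eq_fintype_card (α := K), hn, Nat.card_eq_fintype_card, Fintype.card_fin, ← pow_mul]
    exact dvd_pow_self 2 (by have := n.ne_zero; omega)
  obtain ⟨v, hv, hv0⟩ := hR.exists_fixed_point_of_prime_dvd_card_of_fixed_point (Fin 2 → K) hcard (a := 0)
    (fun r => sm_zero _)
  exact ⟨v, hv0.symm, fun r hr => hv ⟨r, hr⟩⟩

section Exists

variable {P : Type u} [Group P] [Finite P] {T : Sylow 2 P} (b : Blk (T : Subgroup P))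

/-- **Normalized data of a block.** -/
theorem exists_lone {K : Type} [Field K] [Finite K] [CharP K 2] (i : b.I)
    (ρ : ↥(b.E i) →* Matrix.SpecialLinearGroup (Fin 2) K)
    (ψ : ↥(⁅pCore 2 P, b.E i⁆ : Subgroup P) →* Multiplicative (Fin 2 → K))
    (hρ : Function.Surjective ρ) (hρk : ∀ e, ρ e = 1 ↔ (e : P) ∈ ⁅pCore 2 P, b.E i⁆) (hψ : Function.Surjective ψ)
    (hψk : ∀ w, ψ w = 1 ↔ (w : P) ∈ Subgroup.centralizer (b.E i : Set P))
    (heq : ∀ (e : b.E i) (w w' : ↥(⁅pCore 2 P, b.E i⁆ : Subgroup P)), (w' : P) = (e : P) * w * (e : P)⁻¹ →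
      Multiplicative.toAdd (ψ w') =
        ((ρ e : Matrix.SpecialLinearGroup (Fin 2) K) : Matrix (Fin 2) (Fin 2) K).mulVec (Multiplicative.toAdd (ψ w))) :
    ∃ Ψ ρ', LOne b K i Ψ ρ' := by
  classical
  have := fact2
  -- the conjugating element
  obtain ⟨v, hv0, hv⟩ := exists_fix (K := K) (R := ((T : Subgroup P).subgroupOf (b.E i)).map ρ) (by
    apply IsPGroup.map
    exact T.2.comap_of_injective _ (b.E i).subtype_injective)
  obtain ⟨g, hg⟩ := exists_sm_e hv0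
  have hTU : ∀ e : b.E i, (e : P) ∈ (T : Subgroup P) → ∃ c, g⁻¹ * ρ e * g = uu c := by
    intro e he
    apply eq_uu_of_fix
    rw [sm_mul, sm_mul, hg, hv _ ⟨e, he, rfl⟩, ← hg, sm_inv_sm]
  -- the preimage of `g U g⁻¹`
  let H : Subgroup P :=
    { carrier := {e | ∃ h : e ∈ b.E i, ∃ c, g⁻¹ * ρ ⟨e, h⟩ * g = uu c}
      one_mem' := ⟨one_mem _, 0, by
        have h1 : (⟨1, one_mem _⟩ : b.E i) = 1 := rfl
        rw [h1, map_one, mul_one, inv_mul_cancel, uu_zero]⟩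
      mul_mem' := by
        rintro x y ⟨hx, c, hc⟩ ⟨hy, d, hd⟩
        refine ⟨mul_mem hx hy, c + d, ?_⟩
        have h1 : (⟨x * y, mul_mem hx hy⟩ : b.E i) = ⟨x, hx⟩ * ⟨y, hy⟩ := rfl
        rw [h1, map_mul, uu_add, ← hc, ← hd]
        group
      inv_mem' := by
        rintro x ⟨hx, c, hc⟩
        refine ⟨inv_mem hx, -c, ?_⟩
        have h1 : (⟨x⁻¹, inv_mem hx⟩ : b.E i) = ⟨x, hx⟩⁻¹ := rfl
        rw [h1, map_inv, ← uu_inv, ← hc]
        group }
  have hHE : H ≤ b.E i := fun x hx => hx.1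
  have hHp : IsPGroup 2 H := by
    rintro ⟨x, hx, c, hc⟩
    refine ⟨2, Subtype.ext ?_⟩
    show x ^ (2 ^ 2) = 1
    have h1 : ρ (⟨x, hx⟩ ^ 2) = 1 := by
      have h2 : ρ ⟨x, hx⟩ = g * uu c * g⁻¹ := by rw [← hc]; group
      rw [map_pow, h2, conj_pow, sq, ← uu_add, CharTwo.add_self_eq_zero, uu_zero]
      group
    have h2 : x ^ 2 ∈ ⁅pCore 2 P, b.E i⁆ := (hρk _).1 h1
    have h3 := b.bw.W_sq _ (Wi_le_WW b i h2)
    rw [← pow_mul] at h3
    exact h3
  obtain ⟨k, hk, hkH⟩ := exists_conj b i hHp hHE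
  -- surjectivity onto `U`
  have hUT : ∀ c, ∃ e : b.E i, (e : P) ∈ (T : Subgroup P) ∧ g⁻¹ * ρ e * g = uu c := by
    have hsur : ∀ c, ∃ h : b.E i, g⁻¹ * ρ h * g = uu c := by
      intro c
      obtain ⟨h, hh⟩ := hρ (g * uu c * g⁻¹)
      exact ⟨h, by rw [hh]; group⟩
    choose h hh using hsur
    have hmem : ∀ c, ((⟨k, hk⟩⁻¹ * h c * ⟨k, hk⟩ : b.E i) : P) ∈ (T : Subgroup P) := by
      intro c
      exact hkH _ ⟨(h c).2, c, hh c⟩
    choose f hf using fun c => hTU _ (hmem c)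
    have hfinj : Function.Injective f := by
      intro c d hcd
      have h1 : g⁻¹ * ρ (⟨k, hk⟩⁻¹ * h c * ⟨k, hk⟩) * g = g⁻¹ * ρ (⟨k, hk⟩⁻¹ * h d * ⟨k, hk⟩) * g := by
        rw [hf, hf, hcd]
      have h2 : ρ (⟨k, hk⟩⁻¹ * h c * ⟨k, hk⟩) = ρ (⟨k, hk⟩⁻¹ * h d * ⟨k, hk⟩) :=
        mul_left_cancel (mul_right_cancel h1)
      rw [map_mul, map_mul, map_mul, map_mul] at h2
      have h3 : ρ (h c) = ρ (h d) := mul_left_cancel (mul_right_cancel h2)
      apply uu_inj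
      rw [← hh c, ← hh d, h3]
    intro c
    obtain ⟨d, rfl⟩ := (Finite.injective_iff_surjective.1 hfinj) c
    exact ⟨_, hmem d, hf d⟩
  -- the maps
  let ρ' : P → Matrix.SpecialLinearGroup (Fin 2) K := fun e => if h : e ∈ b.E i then g⁻¹ * ρ ⟨e, h⟩ * g else 1
  have hρ' : ∀ e (h : e ∈ b.E i), ρ' e = g⁻¹ * ρ ⟨e, h⟩ * g := fun e h => dif_pos h
  let ψ' : ↥(⁅pCore 2 P, b.E i⁆ : Subgroup P) → (Fin 2 → K) := fun w => sm g⁻¹ (Multiplicative.toAdd (ψ w))
  have hψ'mul : ∀ w w', ψ' (w * w') = ψ' w + ψ' w' := by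
    intro w w'
    show sm g⁻¹ (Multiplicative.toAdd (ψ (w * w'))) = _
    rw [map_mul, toAdd_mul, sm_add]
  have hψ'0 : ∀ w, ψ' w = 0 ↔ (w : P) ∈ centralizer (b.E i : Set P) := by
    intro w
    rw [← hψk]
    constructor
    · intro h
      have h1 : Multiplicative.toAdd (ψ w) = 0 := sm_inj g⁻¹ (h.trans (sm_zero _).symm)
      exact h1
    · intro h
      show sm g⁻¹ (Multiplicative.toAdd (ψ w)) = 0
      rw [h, toAdd_one, sm_zero]
  have hex : ∀ w : P, ∃ v : Fin 2 → K, w ∈ WW P → ∃ (a : ↥(⁅pCore 2 P, b.E i⁆ : Subgroup P)) (c : P),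
      c ∈ WW P ∧ c ∈ centralizer (b.E i : Set P) ∧ w = a * c ∧ v = ψ' a := by
    intro w
    by_cases hw : w ∈ WW P
    · obtain ⟨a, ha, c, hc, hc', he⟩ := decomp b i hw
      exact ⟨ψ' ⟨a, ha⟩, fun _ => ⟨⟨a, ha⟩, c, hc, hc', he, rfl⟩⟩
    · exact ⟨0, fun h => absurd h hw⟩
  choose Ψ hΨ using hex
  have hval : ∀ (a : ↥(⁅pCore 2 P, b.E i⁆ : Subgroup P)) (c : P), c ∈ WW P → c ∈ centralizer (b.E i : Set P) →
      Ψ (a * c) = ψ' a := by
    intro a c hc hc'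
    obtain ⟨a', c', hc1, hc1', he, hv⟩ := hΨ ((a : P) * c) (mul_mem (Wi_le_WW b i a.2) hc)
    rw [hv]
    have h1 : (((a')⁻¹ * a : ↥(⁅pCore 2 P, b.E i⁆ : Subgroup P)) : P) ∈ centralizer (b.E i : Set P) := by
      have h2 : (((a')⁻¹ * a : ↥(⁅pCore 2 P, b.E i⁆ : Subgroup P)) : P) = c' * c⁻¹ := by
        show (a' : P)⁻¹ * (a : P) = c' * c⁻¹
        rw [inv_mul_eq_iff_eq_mul, ← mul_assoc, ← he, mul_inv_cancel_right]
      rw [h2]
      exact mul_mem hc1' (inv_mem hc')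
    have h2 := (hψ'0 _).2 h1
    have h3 : ψ' a = ψ' a' + ψ' ((a')⁻¹ * a) := by rw [← hψ'mul, mul_inv_cancel_left]
    rw [h3, h2, add_zero]
  refine ⟨Ψ, ρ', ?_, ?_, ?_, ?_, ?_, ?_, ?_, ?_, ?_⟩
  · -- additivity
    intro w hw w' hw'
    obtain ⟨a, ha, c, hc, hc', rfl⟩ := decomp b i hw
    obtain ⟨a', ha', c', hc1, hc1', rfl⟩ := decomp b i hw'
    have h1 : c * a' = a' * c := W_comm' b hc (Wi_le_WW b i ha')
    have h2 : a * c * (a' * c') = ((⟨a, ha⟩ * ⟨a', ha'⟩ : ↥(⁅pCore 2 P, b.E i⁆ : Subgroup P)) : P) * (c * c') := by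
      show a * c * (a' * c') = a * a' * (c * c')
      calc a * c * (a' * c') = a * (c * a') * c' := by group
        _ = a * a' * (c * c') := by rw [h1]; group
    rw [h2, hval _ _ (mul_mem hc hc1) (mul_mem hc' hc1'), hψ'mul, hval ⟨a, ha⟩ c hc hc', hval ⟨a', ha'⟩ c' hc1 hc1']
  · intro w hw
    obtain ⟨a, ha, c, hc, hc', rfl⟩ := decomp b i hw
    rw [hval ⟨a, ha⟩ c hc hc', hψ'0]
    constructor
    · intro h
      exact mul_mem h hc'
    · intro h
      have h1 := mul_mem h (inv_mem hc')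
      rwa [mul_inv_cancel_right] at h1
  · intro v
    obtain ⟨w, hw⟩ := hψ (Multiplicative.ofAdd (sm g v))
    refine ⟨w, w.2, ?_⟩
    have h1 := hval w 1 (one_mem _) (one_mem _)
    rw [mul_one] at h1
    rw [h1]
    show sm g⁻¹ (Multiplicative.toAdd (ψ w)) = v
    rw [hw, toAdd_ofAdd, sm_inv_sm]
  · intro e he e' he'
    rw [hρ' e he, hρ' e' he', hρ' _ (mul_mem he he')]
    have h1 : (⟨e * e', mul_mem he he'⟩ : b.E i) = ⟨e, he⟩ * ⟨e', he'⟩ := rfl
    rw [h1, map_mul]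
    group
  · intro m
    obtain ⟨e, he⟩ := hρ (g * m * g⁻¹)
    refine ⟨e, e.2, ?_⟩
    rw [hρ' _ e.2, Subtype.coe_eta, he]
    group
  · intro e he
    rw [hρ' e he, ← hρk ⟨e, he⟩]
    constructor
    · intro h
      have h1 : ρ ⟨e, he⟩ = g * (g⁻¹ * ρ ⟨e, he⟩ * g) * g⁻¹ := by group
      rw [h1, h]
      group
    · intro h
      rw [h]
      group
  · intro e he w hw
    obtain ⟨a, ha, c, hc, hc', rfl⟩ := decomp b i hw
    have h1 : e * (a * c) * e⁻¹ = ((⟨e * a * e⁻¹, conjE_Wi b he ha⟩ : ↥(⁅pCore 2 P, b.E i⁆ : Subgroup P)) : P) * c := by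
      have h2 : e * c = c * e := hc' e he
      show e * (a * c) * e⁻¹ = e * a * e⁻¹ * c
      calc e * (a * c) * e⁻¹ = e * a * (c * e⁻¹) := by group
        _ = e * a * (e⁻¹ * (e * c) * e⁻¹) := by group
        _ = e * a * (e⁻¹ * (c * e) * e⁻¹) := by rw [h2]
        _ = _ := by group
    rw [h1, hval _ c hc hc', hval ⟨a, ha⟩ c hc hc', hρ' e he]
    show sm g⁻¹ (Multiplicative.toAdd (ψ _)) = sm _ (sm g⁻¹ (Multiplicative.toAdd (ψ ⟨a, ha⟩)))
    rw [heq ⟨e, he⟩ ⟨a, ha⟩ _ rfl, sm_mul, sm_mul, sm_sm_inv]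
    rfl
  · intro e he heT
    rw [hρ' e he]
    exact hTU ⟨e, he⟩ heT
  · intro c
    obtain ⟨e, heT, he⟩ := hUT c
    exact ⟨e, e.2, heT, by rw [hρ' _ e.2, Subtype.coe_eta, he]⟩

end Exists

end Cfsg.Agent.H880.HM
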