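import Cfsg.Agent.H880.HM.LinB

/-!
# S5175, T4/T5 linear part, C (for helper756): the action of `T` on the blocks

* `LD b K` : normalized linear data; `exists_ld`;
* `Mv b t i j` : `t E_i t⁻¹ = E_j`;
* `L.Acts i t c` : `t` acts on `W / C_W(E_i)` as the matrix `(1 c; 0 1)`;
* `L.exists_nrm` : the action of an element of `T` normalizing `E_i`.
-/

set_option autoImplicit false
set_option linter.unusedSectionVars false

namespace Cfsg.Agent.H880.HM

open Cfsg Subgroup Cfsg.Agent.H756.HM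
open scoped commutatorElement

universe u

/-- normalized linear data -/
structure LD {P : Type u} [Group P] {T : Sylow 2 P} (b : Blk (T : Subgroup P)) (K : Type) [Field K] where
  Ψ : b.I → P → (Fin 2 → K)
  ρ : b.I → P → Matrix.SpecialLinearGroup (Fin 2) K
  one : ∀ i, LOne b K i (Ψ i) (ρ i)

theorem charP_of_card {K : Type*} [Field K] [Fintype K] {n : ℕ} (h : Fintype.card K = 2 ^ n) :
    CharP K 2 := by
  obtain ⟨r, hr⟩ := CharP.exists K
  have hrp : r.Prime := (CharP.char_is_prime_or_zero K r).resolve_right (CharP.char_ne_zero_of_finite K r)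
  have := Fact.mk hrp
  obtain ⟨m, _, hm⟩ := FiniteField.card K r
  rw [h] at hm
  have h1 : r ∣ 2 ^ n := by rw [hm]; exact dvd_pow_self r m.ne_zero
  have h2 := (Nat.prime_dvd_prime_iff_eq hrp Nat.prime_two).1 (hrp.dvd_of_dvd_pow h1)
  rwa [h2] at hr

section Basic

variable {P : Type u} [Group P] [Finite P] {T : Sylow 2 P} {b : Blk (T : Subgroup P)}

/-- `t E_i t⁻¹ = E_j` -/
def Mv (b : Blk (T : Subgroup P)) (t : P) (i j : b.I) : Prop := (b.E i).map (MulAut.conj t).toMonoidHom = b.E j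

theorem exists_mv {t : P} (ht : t ∈ (T : Subgroup P)) (i : b.I) : ∃ j, Mv b t i j := b.perm t ht i

theorem Mv.mem {t : P} {i j : b.I} (h : Mv b t i j) {e : P} (he : e ∈ b.E i) : t * e * t⁻¹ ∈ b.E j := by
  unfold Mv at h
  rw [← h]
  exact ⟨e, he, rfl⟩

theorem Mv.uniq {t : P} {i j k : b.I} (h : Mv b t i j) (h' : Mv b t i k) : j = k := b.inj (h.symm.trans h')

theorem Mv.one (i : b.I) : Mv b 1 i i := by
  unfold Mv
  rw [map_one]
  exact Subgroup.map_id _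

theorem Mv.mul {t t' : P} {i j k : b.I} (h : Mv b t i j) (h' : Mv b t' j k) : Mv b (t' * t) i k := by
  unfold Mv at h h' ⊢
  rw [← h', ← h, Subgroup.map_map]
  congr 1
  ext x
  simp

theorem Mv.inv {t : P} {i j : b.I} (h : Mv b t i j) : Mv b t⁻¹ j i := by
  unfold Mv at h ⊢
  rw [← h, Subgroup.map_map]
  have h1 : (MulAut.conj t⁻¹).toMonoidHom.comp (MulAut.conj t).toMonoidHom = MonoidHom.id P := by
    ext x
    show t⁻¹ * (t * x * t⁻¹) * t⁻¹⁻¹ = x
    group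
  rw [h1, Subgroup.map_id]

theorem Mv.conjW {t : P} {i j : b.I} (h : Mv b t i j) {w : P} (hw : w ∈ ⁅pCore 2 P, b.E i⁆) :
    t * w * t⁻¹ ∈ ⁅pCore 2 P, b.E j⁆ := by
  have h1 : (⁅pCore 2 P, b.E i⁆ : Subgroup P).map (MulAut.conj t).toMonoidHom = ⁅pCore 2 P, b.E j⁆ := by
    rw [Subgroup.map_commutator]
    have h2 : (pCore 2 P).map (MulAut.conj t).toMonoidHom = pCore 2 P := by
      have := Lib.Cores.pCore_normal (G := P) 2
      rw [H258.Bau.map_conj_eq_iff, normalizer_eq_top_iff.2 this]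
      exact mem_top t
    rw [h2]
    unfold Mv at h
    rw [h]
  rw [← h1]
  exact ⟨w, hw, rfl⟩

theorem Mv.cent {t : P} {i j : b.I} (h : Mv b t i j) {w : P} (hw : w ∈ centralizer (b.E i : Set P)) :
    t * w * t⁻¹ ∈ centralizer (b.E j : Set P) := by
  intro x hx
  have h1 : t⁻¹ * x * t ∈ b.E i := by
    have h2 := h.inv.mem hx
    rwa [inv_inv] at h2
  have h2 := hw _ h1
  calc x * (t * w * t⁻¹) = t * ((t⁻¹ * x * t) * w) * t⁻¹ := by group
    _ = t * w * t⁻¹ * x := by rw [h2]; group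

end Basic

namespace LD

variable {P : Type u} [Group P] [Finite P] {T : Sylow 2 P} {b : Blk (T : Subgroup P)} {K : Type} [Field K]
  (L : LD b K)

theorem zero (i : b.I) : L.Ψ i 1 = 0 := ((L.one i).ψker 1 (one_mem _)).2 (one_mem _)

theorem inv (i : b.I) {w : P} (hw : w ∈ WW P) : L.Ψ i w⁻¹ = -L.Ψ i w := by
  have h1 := (L.one i).ψmul w hw w⁻¹ (inv_mem hw)
  rw [mul_inv_cancel, L.zero] at h1
  exact (neg_eq_of_add_eq_zero_right h1.symm).symm

theorem div (i : b.I) {w w' : P} (hw : w ∈ WW P) (hw' : w' ∈ WW P) : L.Ψ i (w⁻¹ * w') = L.Ψ i w' - L.Ψ i w := by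
  rw [(L.one i).ψmul _ (inv_mem hw) _ hw', L.inv i hw]
  abel

/-- joint kernel -/
theorem mem_cent {w : P} (hw : w ∈ WW P) : (∀ i, L.Ψ i w = 0) ↔ w ∈ centralizer (pResidual 2 P : Set P) := by
  constructor
  · intro h x hx
    rw [SetLike.mem_coe, ← b.sup] at hx
    induction hx using Subgroup.iSup_induction' with
    | hp i x hx => exact (((L.one i).ψker w hw).1 (h i)) x hx
    | h1 => simp
    | hmul x y _ _ hx hy => rw [mul_assoc, hy, ← mul_assoc, hx, mul_assoc]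
  · intro h i
    rw [(L.one i).ψker w hw]
    intro x hx
    exact h x (E_le b i hx)

theorem other {i j : b.I} (hij : i ≠ j) {w : P} (hw : w ∈ ⁅pCore 2 P, b.E j⁆) : L.Ψ i w = 0 := by
  rw [(L.one i).ψker w (Wi_le_WW b j hw)]
  intro x hx
  exact (EW_comm b (Ne.symm hij) hw hx).symm

theorem joint [Finite b.I] (f : b.I → Fin 2 → K) : ∃ w ∈ WW P, ∀ i, L.Ψ i w = f i := by
  classical
  have : Fintype b.I := Fintype.ofFinite _
  have key : ∀ s : Finset b.I, ∃ w ∈ WW P, (∀ i ∈ s, L.Ψ i w = f i) ∧ ∀ i, i ∉ s → L.Ψ i w = 0 := by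
    intro s
    induction s using Finset.induction_on with
    | empty => exact ⟨1, one_mem _, fun i hi => absurd hi (Finset.notMem_empty i), fun i _ => L.zero i⟩
    | insert j s hj ih =>
      obtain ⟨w, hw, h1, h2⟩ := ih
      obtain ⟨a, ha, hav⟩ := (L.one j).ψsurj (f j)
      have haW := Wi_le_WW b j ha
      refine ⟨a * w, mul_mem haW hw, fun i hi => ?_, fun i hi => ?_⟩
      · rw [(L.one i).ψmul _ haW _ hw]
        by_cases hij : i = j
        · subst hij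
          rw [hav, h2 i hj, add_zero]
        · rw [L.other hij ha, h1 i ((Finset.mem_insert.1 hi).resolve_left hij), zero_add]
      · rw [Finset.mem_insert, not_or] at hi
        rw [(L.one i).ψmul _ haW _ hw, L.other hi.1 ha, h2 i hi.2, zero_add]
  obtain ⟨w, hw, h1, -⟩ := key Finset.univ
  exact ⟨w, hw, fun i => h1 i (Finset.mem_univ i)⟩

/-- `t` acts on `W / C_W(E_i)` as `(1 c; 0 1)` -/
def Acts (i : b.I) (t : P) (c : K) : Prop := ∀ w ∈ WW P, L.Ψ i (t * w * t⁻¹) = sm (uu c) (L.Ψ i w)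

variable {L}

theorem Acts.mul {i : b.I} {t t' : P} {c c' : K} (h : L.Acts i t c) (h' : L.Acts i t' c') :
    L.Acts i (t * t') (c + c') := by
  intro w hw
  have h1 : t * t' * w * (t * t')⁻¹ = t * (t' * w * t'⁻¹) * t⁻¹ := by group
  rw [h1, h _ (conj_WW hw t'), h' w hw, uu_add, sm_mul]

theorem Acts.one (i : b.I) : L.Acts i 1 0 := by
  intro w _
  rw [one_mul, inv_one, mul_one, uu_zero, sm_one]

theorem Acts.inv {i : b.I} {t : P} {c : K} (h : L.Acts i t c) : L.Acts i t⁻¹ (-c) := by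
  intro w hw
  have h1 := h (t⁻¹ * w * t⁻¹⁻¹) (conj_WW hw t⁻¹)
  have h2 : t * (t⁻¹ * w * t⁻¹⁻¹) * t⁻¹ = w := by group
  rw [h2] at h1
  rw [h1, ← uu_inv, sm_inv_sm]

theorem Acts.uniq [Finite b.I] {i : b.I} {t : P} {c c' : K} (h : L.Acts i t c) (h' : L.Acts i t c') : c = c' := by
  obtain ⟨w, hw, hv⟩ := L.joint (fun _ => ![0, 1])
  have h1 := h w hw
  rw [h' w hw, hv i] at h1
  have h2 := congrFun h1 0
  rw [sm_uu_zero, sm_uu_zero] at h2
  simpa using h2.symm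

variable (L)

theorem acts_Q (i : b.I) {g : P} (hg : g ∈ pCore 2 P) : L.Acts i g 0 := by
  intro w hw
  rw [← W_commQ b hw hg, mul_inv_cancel_right, uu_zero, sm_one]

theorem acts_E {i : b.I} {e : P} (he : e ∈ b.E i) {c : K} (hc : L.ρ i e = uu c) : L.Acts i e c := by
  intro w hw
  rw [(L.one i).equi e he w hw, hc]

theorem acts_other {i j : b.I} (hij : i ≠ j) {e : P} (he : e ∈ b.E j) : L.Acts i e 0 := by
  intro w hw
  obtain ⟨a, ha, c, hc, hc', rfl⟩ := decomp b j hw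
  have h1 : e * c = c * e := hc' e he
  have h2 : e * (a * c) * e⁻¹ = e * a * e⁻¹ * c := by
    calc e * (a * c) * e⁻¹ = e * a * (e⁻¹ * (e * c) * e⁻¹) := by group
      _ = e * a * (e⁻¹ * (c * e) * e⁻¹) := by rw [h1]
      _ = _ := by group
  have h3 := conjE_Wi b he ha
  rw [h2, (L.one i).ψmul _ (Wi_le_WW b j h3) _ hc, (L.one i).ψmul _ (Wi_le_WW b j ha) _ hc, L.other hij h3,
    L.other hij ha, uu_zero, sm_one]

/-- triviality of an action in terms of commutators -/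
theorem acts_zero_iff (i : b.I) (t : P) :
    L.Acts i t 0 ↔ ∀ w ∈ WW P, ⁅t, w⁆ ∈ centralizer (b.E i : Set P) := by
  constructor
  · intro h w hw
    have h1 : ⁅t, w⁆ = t * w * t⁻¹ * w⁻¹ := rfl
    rw [h1, ← (L.one i).ψker _ (mul_mem (conj_WW hw t) (inv_mem hw)),
      (L.one i).ψmul _ (conj_WW hw t) _ (inv_mem hw), h w hw, L.inv i hw, uu_zero, sm_one, add_neg_cancel]
  · intro h w hw
    have h1 : ⁅t, w⁆ = t * w * t⁻¹ * w⁻¹ := rfl
    have h2 := h w hw
    rw [h1, ← (L.one i).ψker _ (mul_mem (conj_WW hw t) (inv_mem hw)),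
      (L.one i).ψmul _ (conj_WW hw t) _ (inv_mem hw), L.inv i hw] at h2
    rw [uu_zero, sm_one]
    exact eq_of_sub_eq_zero (by rw [sub_eq_add_neg]; exact h2)

/-- **faithfulness** -/
theorem mem_Q {t : P} (ht : t ∈ (T : Subgroup P)) (h : ∀ i, L.Acts i t 0) : t ∈ pCore 2 P := by
  apply b.faith t ht
  intro w hw
  have h1 : ⁅t, w⁆ = t * w * t⁻¹ * w⁻¹ := rfl
  rw [← L.mem_cent (by rw [h1]; exact mul_mem (conj_WW hw t) (inv_mem hw))]
  intro i
  have h2 := (L.acts_zero_iff i t).1 (h i) w hw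
  rwa [(L.one i).ψker _ (by rw [h1]; exact mul_mem (conj_WW hw t) (inv_mem hw))]

/-- conjugation moves the kernels -/
theorem zero_iff {t : P} {i j : b.I} (h : Mv b t i j) {w : P} (hw : w ∈ WW P) :
    L.Ψ j (t * w * t⁻¹) = 0 ↔ L.Ψ i w = 0 := by
  rw [(L.one j).ψker _ (conj_WW hw t), (L.one i).ψker _ hw]
  constructor
  · intro h1
    have h2 := h.inv.cent h1
    have h3 : t⁻¹ * (t * w * t⁻¹) * t⁻¹⁻¹ = w := by group
    rwa [h3] at h2
  · intro h1
    exact h.cent h1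

theorem mv_of_acts {t : P} (ht : t ∈ (T : Subgroup P)) {i : b.I} {c : K} (h : L.Acts i t c) : Mv b t i i := by
  obtain ⟨j, hj⟩ := exists_mv (b := b) ht i
  by_cases hij : i = j
  · rwa [← hij] at hj
  exfalso
  obtain ⟨w, hw, hv⟩ := (L.one i).ψsurj ![1, 0]
  have h1 := h w (Wi_le_WW b i hw)
  rw [L.other hij (hj.conjW hw), hv] at h1
  have h2 := congrFun h1 0
  rw [sm_uu_zero] at h2
  simp at h2

/-- **The action on a fixed block.** -/
theorem exists_nrm {t : P} (ht : t ∈ (T : Subgroup P)) {i : b.I} (h : Mv b t i i) :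
    ∃ τ : (Fin 2 → K) → (Fin 2 → K), Nrm τ ∧ ∀ w ∈ WW P, τ (L.Ψ i w) = L.Ψ i (t * w * t⁻¹) := by
  have hsur : ∀ v : Fin 2 → K, ∃ w ∈ WW P, L.Ψ i w = v := by
    intro v
    obtain ⟨w, hw, hv⟩ := (L.one i).ψsurj v
    exact ⟨w, Wi_le_WW b i hw, hv⟩
  choose s hs hs' using hsur
  have hτ : ∀ w ∈ WW P, L.Ψ i (t * s (L.Ψ i w) * t⁻¹) = L.Ψ i (t * w * t⁻¹) := by
    intro w hw
    have h1 := (L.zero_iff h (mul_mem (inv_mem (hs (L.Ψ i w))) hw)).2 (by
      rw [L.div i (hs _) hw, hs', sub_self])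
    have h2 : t * ((s (L.Ψ i w))⁻¹ * w) * t⁻¹ = (t * s (L.Ψ i w) * t⁻¹)⁻¹ * (t * w * t⁻¹) := by group
    rw [h2, L.div i (conj_WW (hs _) t) (conj_WW hw t), sub_eq_zero] at h1
    exact h1.symm
  refine ⟨fun v => L.Ψ i (t * s v * t⁻¹), ⟨?_, ?_, ?_, ?_⟩, hτ⟩
  · intro v w
    have h1 := hτ (s v * s w) (mul_mem (hs v) (hs w))
    rw [(L.one i).ψmul _ (hs v) _ (hs w), hs', hs'] at h1
    rw [h1]
    have h2 : t * (s v * s w) * t⁻¹ = (t * s v * t⁻¹) * (t * s w * t⁻¹) := by group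
    rw [h2, (L.one i).ψmul _ (conj_WW (hs v) t) _ (conj_WW (hs w) t)]
  · intro v hv
    have h1 := (L.zero_iff h (hs v)).1 hv
    rwa [hs'] at h1
  · intro m
    obtain ⟨e, he, hem⟩ := (L.one i).ρsurj m
    refine ⟨L.ρ i (t * e * t⁻¹), fun v => ?_⟩
    have h1 := hτ (e * s v * e⁻¹) (conj_WW (hs v) e)
    rw [(L.one i).equi e he _ (hs v), hem, hs'] at h1
    rw [h1]
    have h2 : t * (e * s v * e⁻¹) * t⁻¹ = (t * e * t⁻¹) * (t * s v * t⁻¹) * (t * e * t⁻¹)⁻¹ := by group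
    rw [h2, (L.one i).equi _ (h.mem he) _ (conj_WW (hs v) t)]
  · intro c
    obtain ⟨e, he, heT, hem⟩ := (L.one i).UT c
    obtain ⟨c', hc'⟩ := (L.one i).TU (t * e * t⁻¹) (h.mem he) (mul_mem (mul_mem ht heT) (inv_mem ht))
    refine ⟨c', fun v => ?_⟩
    have h1 := hτ (e * s v * e⁻¹) (conj_WW (hs v) e)
    rw [(L.one i).equi e he _ (hs v), hem, hs'] at h1
    rw [h1]
    have h2 : t * (e * s v * e⁻¹) * t⁻¹ = (t * e * t⁻¹) * (t * s v * t⁻¹) * (t * e * t⁻¹)⁻¹ := by group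
    rw [h2, (L.one i).equi _ (h.mem he) _ (conj_WW (hs v) t), hc']

/-- an element of `T` normalizing `E_i` and commuting with `T ∩ E_i` modulo the kernel -/
theorem acts_of_comm [Finite K] [CharP K 2] {t : P} (ht : t ∈ (T : Subgroup P)) {i : b.I} (h : Mv b t i i)
    (hc : ∀ e ∈ b.E i, e ∈ (T : Subgroup P) → L.Acts i ⁅t, e⁆ 0) : ∃ c, L.Acts i t c := by
  obtain ⟨τ, hτ, hτw⟩ := L.exists_nrm ht h
  have hsur : ∀ v : Fin 2 → K, ∃ w ∈ WW P, L.Ψ i w = v := by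
    intro v
    obtain ⟨w, hw, hv⟩ := (L.one i).ψsurj v
    exact ⟨w, Wi_le_WW b i hw, hv⟩
  have hcomm : ∀ c v, τ (sm (uu c) v) = sm (uu c) (τ v) := by
    intro c v
    obtain ⟨w, hw, rfl⟩ := hsur v
    obtain ⟨e, he, heT, hem⟩ := (L.one i).UT c
    have h1 := (L.one i).equi e he w hw
    rw [hem] at h1
    rw [← h1, hτw _ (conj_WW hw e), hτw _ hw]
    have h2 : t * (e * w * e⁻¹) * t⁻¹ = ⁅t, e⁆ * (e * (t * w * t⁻¹) * e⁻¹) * ⁅t, e⁆⁻¹ := by
      rw [commutatorElement_def]; group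
    rw [h2, hc e he heT _ (conj_WW (conj_WW hw t) e), uu_zero, sm_one, (L.one i).equi e he _ (conj_WW hw t), hem]
  obtain ⟨k, hk⟩ := T.2 ⟨t, ht⟩
  have hk' : t ^ 2 ^ k = 1 := congrArg Subtype.val hk
  have hit : ∀ (n : ℕ) (w : P), w ∈ WW P → τ^[n] (L.Ψ i w) = L.Ψ i (t ^ n * w * (t ^ n)⁻¹) := by
    intro n
    induction n with
    | zero => intro w _; simp
    | succ n ih =>
      intro w hw
      rw [Function.iterate_succ_apply', ih w hw, hτw _ (conj_WW hw _)]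
      congr 1
      rw [pow_succ']
      group
  have hid : τ^[2 ^ k] = id := by
    funext v
    obtain ⟨w, hw, rfl⟩ := hsur v
    rw [hit _ w hw, hk']
    simp
  obtain ⟨c, hc'⟩ := hτ.of_comm hcomm hid
  exact ⟨c, fun w hw => by rw [← hτw w hw, hc']⟩

end LD

/-- **Existence of normalized data.** -/
theorem exists_ld {P : Type u} [Group P] [Finite P] {T : Sylow 2 P} (b : Blk (T : Subgroup P))
    {K : Type} [Field K] [Fintype K] {n : ℕ} (hK : Fintype.card K = 2 ^ n)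
    (h : ∀ i, ∃ (ρ : ↥(b.E i) →* Matrix.SpecialLinearGroup (Fin 2) K)
        (ψ : ↥(⁅pCore 2 P, b.E i⁆ : Subgroup P) →* Multiplicative (Fin 2 → K)),
        Function.Surjective ρ ∧
        (∀ e, ρ e = 1 ↔ (e : P) ∈ ⁅pCore 2 P, b.E i⁆) ∧ Function.Surjective ψ ∧
        (∀ w, ψ w = 1 ↔ (w : P) ∈ Subgroup.centralizer (b.E i : Set P)) ∧
        ∀ (e : b.E i) (w w' : ↥(⁅pCore 2 P, b.E i⁆ : Subgroup P)), (w' : P) = (e : P) * w * (e : P)⁻¹ →
          Multiplicative.toAdd (ψ w') =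
            ((ρ e : Matrix.SpecialLinearGroup (Fin 2) K) : Matrix (Fin 2) (Fin 2) K).mulVec
              (Multiplicative.toAdd (ψ w))) : Nonempty (LD b K) := by
  have := charP_of_card hK
  have h1 : ∀ i, ∃ Ψ ρ', LOne b K i Ψ ρ' := by
    intro i
    obtain ⟨ρ, ψ, h1, h2, h3, h4, h5⟩ := h i
    exact exists_lone b i ρ ψ h1 h2 h3 h4 h5
  choose Ψ ρ hL using h1
  exact ⟨⟨Ψ, ρ, hL⟩⟩

end Cfsg.Agent.H880.HM
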