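import Cfsg.Agent.H880.HM.LinC

/-!
# S5175, T4/T5 linear part, D (for helper756): elementary abelian normal subgroups of `T`

* `Off b X` : `X ≤ T` is normalized by `T` and abelian;
* `fixed_acts` : if `X` normalizes the block `i`, all its elements act as unitriangular matrices;
* `pair_*` : if `X` moves a block.
-/

set_option autoImplicit false
set_option linter.unusedSectionVars false

namespace Cfsg.Agent.H880.HM

open Cfsg Subgroup Cfsg.Agent.H756.HM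
open scoped commutatorElement

universe u

/-- abelian subgroups of `T` normalized by `T` -/
structure Off {P : Type u} [Group P] (T : Sylow 2 P) (X : Subgroup P) : Prop where
  le : X ≤ T
  nor : (T : Subgroup P) ≤ normalizer (X : Set P)
  comm : ∀ a ∈ X, ∀ b ∈ X, a * b = b * a

section

variable {P : Type u} [Group P] [Finite P] {T : Sylow 2 P} {b : Blk (T : Subgroup P)} {K : Type} [Field K]
  (L : LD b K) {X : Subgroup P}

theorem Off.com_mem (h : Off T X) {a t : P} (ha : a ∈ X) (ht : t ∈ (T : Subgroup P)) : ⁅a, t⁆ ∈ X := by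
  have h1 : ⁅a, t⁆ = a * (t * a⁻¹ * t⁻¹) := by rw [commutatorElement_def]; group
  rw [h1]
  exact mul_mem ha ((mem_normalizer_iff.1 (h.nor ht) _).1 (inv_mem ha))

/-- quadratic action -/
theorem Off.quad (h : Off T X) {a c w : P} (ha : a ∈ X) (hc : c ∈ X) (hw : w ∈ WW P) :
    c * ⁅a, w⁆ * c⁻¹ = ⁅a, w⁆ := by
  rw [h.comm c hc _ (h.com_mem ha (WW_le_T hw)), mul_inv_cancel_right]

theorem com_WW {a w : P} (hw : w ∈ WW P) : ⁅a, w⁆ ∈ WW P := by
  have h1 : ⁅a, w⁆ = a * w * a⁻¹ * w⁻¹ := rfl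
  rw [h1]
  exact mul_mem (conj_WW hw a) (inv_mem hw)

/-- **`X` acts on a block it normalizes as a group of unitriangular matrices.** -/
theorem fixed_acts [Finite K] [CharP K 2] (h : Off T X) {i : b.I} (hf : ∀ a ∈ X, Mv b a i i) {a : P} (ha : a ∈ X) :
    ∃ c, L.Acts i a c := by
  have hsur : ∀ v : Fin 2 → K, ∃ w ∈ WW P, L.Ψ i w = v := by
    intro v
    obtain ⟨w, hw, hv⟩ := (L.one i).ψsurj v
    exact ⟨w, Wi_le_WW b i hw, hv⟩
  have haT := h.le ha
  by_cases hX : ∃ a₀ ∈ X, ∃ c₀, c₀ ≠ 0 ∧ L.Acts i a₀ c₀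
  · -- `X ∩ U ≠ 1`
    obtain ⟨a₀, ha₀, c₀, hc₀, hact⟩ := hX
    obtain ⟨τ, hτ, hτw⟩ := L.exists_nrm haT (hf a ha)
    have hΨcom : ∀ (x w : P), w ∈ WW P → L.Ψ i ⁅x, w⁆ = L.Ψ i (x * w * x⁻¹) - L.Ψ i w := by
      intro x w hw
      have h1 : ⁅x, w⁆ = x * w * x⁻¹ * w⁻¹ := rfl
      rw [h1, (L.one i).ψmul _ (conj_WW hw x) _ (inv_mem hw), L.inv i hw, sub_eq_add_neg]
    obtain ⟨c, hc⟩ := hτ.of_quad (by
      intro v hv
      obtain ⟨w, hw, hwv⟩ := hsur ![0, v 0 * c₀⁻¹]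
      have h1 : L.Ψ i ⁅a₀, w⁆ = v := by
        rw [hΨcom a₀ w hw, hact w hw, hwv, sm_uu, add_sub_cancel_left]
        funext j
        fin_cases j
        · simp only [Fin.zero_eta, Matrix.cons_val_zero, Matrix.cons_val_one]
          rw [mul_comm (v 0), ← mul_assoc, mul_inv_cancel₀ hc₀, one_mul]
        · simp [hv]
      rw [← h1, hτw _ (com_WW hw), h.quad ha₀ ha hw]) (by
      intro v
      obtain ⟨w, hw, rfl⟩ := hsur v
      have h1 := hact _ (com_WW (a := a) hw)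
      rw [h.quad ha ha₀ hw] at h1
      have h2 := (fix_uu hc₀).1 h1.symm
      rw [hΨcom a w hw, Pi.sub_apply, sub_eq_zero] at h2
      rw [hτw w hw, h2])
    exact ⟨c, fun w hw => by rw [← hτw w hw, hc]⟩
  · push Not at hX
    apply L.acts_of_comm haT (hf a ha)
    intro e he heT
    -- `[a, e] ∈ X ∩ E_i`
    have h1 : ⁅a, e⁆ ∈ X := h.com_mem ha heT
    have h2 : ⁅a, e⁆ ∈ b.E i := by
      have h3 : ⁅a, e⁆ = (a * e * a⁻¹) * e⁻¹ := rfl
      rw [h3]
      exact mul_mem ((hf a ha).mem he) (inv_mem he)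
    obtain ⟨c, hc⟩ := (L.one i).TU _ h2 (h.le h1)
    have h3 := L.acts_E h2 hc
    by_cases hc0 : c = 0
    · rwa [hc0] at h3
    · exact absurd h3 (hX _ h1 c hc0)

include L in
/-- a moved block: the orbit has length two -/
theorem pair_orbit (h : Off T X) {i j : b.I} (hij : i ≠ j) {a : P} (ha : a ∈ X) (hm : Mv b a i j) {c : P} (hc : c ∈ X)
    {k : b.I} (hk : Mv b c i k) : k = i ∨ k = j := by
  -- `w ∈ W_i`, `[a, w] ∉ C(E_i)`, `∉ C(E_j)`
  obtain ⟨w, hw, hv⟩ := (L.one i).ψsurj ![1, 0]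
  have hwW := Wi_le_WW b i hw
  by_contra hcon
  push Not at hcon
  have hne : L.Ψ i ⁅a, w⁆ ≠ 0 := by
    have h1 : ⁅a, w⁆ = a * w * a⁻¹ * w⁻¹ := rfl
    rw [h1, (L.one i).ψmul _ (conj_WW hwW a) _ (inv_mem hwW), L.inv i hwW, L.other hij (hm.conjW hw), hv, zero_add]
    intro h2
    have h3 := congrFun h2 0
    simp at h3
  have h0 : L.Ψ k ⁅a, w⁆ = 0 := by
    have h1 : ⁅a, w⁆ = a * w * a⁻¹ * w⁻¹ := rfl
    rw [h1, (L.one k).ψmul _ (conj_WW hwW a) _ (inv_mem hwW), L.inv k hwW, L.other hcon.2 (hm.conjW hw),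
      L.other hcon.1 hw]
    simp
  rw [← h.quad ha hc hwW, L.zero_iff hk (com_WW hwW)] at h0
  exact hne h0

/-- a moved block: the stabilizer acts trivially -/
theorem pair_acts (h : Off T X) {i j : b.I} (hij : i ≠ j) {a : P} (ha : a ∈ X) (hm : Mv b a i j) {c : P} (hc : c ∈ X)
    (hk : Mv b c i i) : L.Acts i c 0 := by
  -- `c` fixes `j` too
  have key : ∀ w ∈ ⁅pCore 2 P, b.E i⁆, L.Ψ i (c * w * c⁻¹) = L.Ψ i w := by
    intro w hw
    have hwW := Wi_le_WW b i hw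
    have h1 : ⁅a, w⁆ = a * w * a⁻¹ * w⁻¹ := rfl
    have h2 := h.quad ha hc hwW
    have h3 : L.Ψ i ⁅a, w⁆ = - L.Ψ i w := by
      rw [h1, (L.one i).ψmul _ (conj_WW hwW a) _ (inv_mem hwW), L.inv i hwW, L.other hij (hm.conjW hw), zero_add]
    have h4 : c * ⁅a, w⁆ * c⁻¹ = (c * (a * w * a⁻¹) * c⁻¹) * (c * w * c⁻¹)⁻¹ := by rw [h1]; group
    have hck : Mv b c j j := by
      have h5 : Mv b (a * c * a⁻¹) j j := by
        have h6 := (hm.inv.mul hk).mul hm
        rwa [← mul_assoc] at h6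
      have h6 : a * c * a⁻¹ = c := by rw [h.comm a ha c hc, mul_inv_cancel_right]
      rwa [h6] at h5
    have h5 : L.Ψ i (c * (a * w * a⁻¹) * c⁻¹) = 0 := L.other hij (hck.conjW (hm.conjW hw))
    rw [← h2, h4, (L.one i).ψmul _ (conj_WW (conj_WW hwW a) c) _ (inv_mem (conj_WW hwW c)),
      L.inv i (conj_WW hwW c), h5, zero_add, neg_inj] at h3
    exact h3
  intro w hw
  obtain ⟨x, hx, y, hy, hy', rfl⟩ := decomp b i hw
  have h1 : c * (x * y) * c⁻¹ = (c * x * c⁻¹) * (c * y * c⁻¹) := by group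
  have h2 : L.Ψ i y = 0 := ((L.one i).ψker y hy).2 hy'
  have h3 : L.Ψ i (c * y * c⁻¹) = 0 := (L.zero_iff hk hy).2 h2
  rw [h1, (L.one i).ψmul _ (conj_WW (Wi_le_WW b i hx) c) _ (conj_WW hy c), (L.one i).ψmul _ (Wi_le_WW b i hx) _ hy,
    key x hx, h2, h3, uu_zero, sm_one]

end

end Cfsg.Agent.H880.HM
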