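import Cfsg.Agent.H880.HM.LinD

/-!
# S5175, T4/T5 linear part, E (for helper756): the offender bound

* `off_bound` : `|X : X ∩ Q| ≤ |W : C_W(X)|`;
* `off_surj` : in the case of equality every element of `W` is in `s(f(a)) C_W(X)` for some `a ∈ X`;
* `EqD` : the structure in the case of equality, `exists_eqd`.
-/

set_option autoImplicit false
set_option linter.unusedSectionVars false

namespace Cfsg.Agent.H880.HM

open Cfsg Subgroup Cfsg.Agent.H756.HM
open scoped commutatorElement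

universe u

section

variable {P : Type u} [Group P] [Finite P] {T : Sylow 2 P} {b : Blk (T : Subgroup P)} {K : Type} [Field K]
  (L : LD b K) {X : Subgroup P}

include L in
theorem pair_swap (h : Off T X) {i j : b.I} (hij : i ≠ j) {x : P} (hx : x ∈ X) (hm : Mv b x i j) {a : P} (ha : a ∈ X)
    (hai : Mv b a i j) : Mv b a j i := by
  obtain ⟨k, hk⟩ := exists_mv (b := b) (h.le ha) j
  rcases pair_orbit L h (Ne.symm hij) (inv_mem hx) hm.inv ha hk with h1 | h1
  · exfalso
    rw [h1] at hk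
    exact hij (hai.inv.uniq hk.inv)
  · rwa [h1] at hk

open Classical in
/-- the value of `a ∈ X` at the block `i` -/
noncomputable def fv (X : Subgroup P) (num : b.I → ℕ) (a : P) (i : b.I) : Fin 2 → K :=
  if (∀ x ∈ X, Mv b x i i) then (if h : ∃ c, L.Acts i a c then ![0, h.choose] else 0)
  else if (∃ j, j ≠ i ∧ Mv b a i j ∧ num i < num j) then ![1, 0] else 0

variable {num : b.I → ℕ}

theorem fv_fixed [Finite b.I] {a : P} {i : b.I} (hf : ∀ x ∈ X, Mv b x i i) {c : K} (hc : L.Acts i a c) :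
    fv L X num a i = ![0, c] := by
  have h1 : ∃ c, L.Acts i a c := ⟨c, hc⟩
  unfold fv
  rw [if_pos hf, dif_pos h1, h1.choose_spec.uniq hc]

theorem fv_pair_hi (h : Off T X) {i j : b.I} (hij : i ≠ j) {x : P} (hx : x ∈ X) (hm : Mv b x i j)
    (hn : num i < num j) {a : P} (ha : a ∈ X) : fv L X num a j = 0 := by
  unfold fv
  rw [if_neg, if_neg]
  · rintro ⟨k, hk, hk', hk''⟩
    rcases pair_orbit L h (Ne.symm hij) (inv_mem hx) hm.inv ha hk' with h1 | h1
    · exact hk h1
    · rw [h1] at hk''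
      omega
  · intro h1
    exact hij (hm.inv.uniq (h1 _ (inv_mem hx)))

open Classical in
theorem fv_pair_lo (h : Off T X) {i j : b.I} (hij : i ≠ j) {x : P} (hx : x ∈ X) (hm : Mv b x i j)
    (hn : num i < num j) {a : P} (ha : a ∈ X) : fv L X num a i = if Mv b a i j then ![1, 0] else 0 := by
  unfold fv
  rw [if_neg]
  · by_cases hk : Mv b a i j
    · rw [if_pos hk, if_pos ⟨j, Ne.symm hij, hk, hn⟩]
    · rw [if_neg hk, if_neg]
      rintro ⟨k, hk1, hk', hk''⟩
      rcases pair_orbit L h hij hx hm ha hk' with h1 | h1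
      · exact hk1 h1
      · rw [h1] at hk'
        exact hk hk'
  · intro h1
    exact hij ((h1 x hx).uniq hm)

/-- the elements `a`, `a'` with equal values move `i` in the same way -/
theorem pair_iff (h : Off T X) {i j : b.I} (hij : i ≠ j) {x : P} (hx : x ∈ X) (hm : Mv b x i j)
    (hn : num i < num j) {a a' : P} (ha : a ∈ X) (ha' : a' ∈ X) {v : P} (hv : v ∈ WW P)
    (hvX : ∀ x ∈ X, x * v * x⁻¹ = v) (hval : ∀ i, L.Ψ i v = fv L X num a' i - fv L X num a i) :
    Mv b a i j ↔ Mv b a' i j := by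
  have h1 : L.Ψ j v = 0 := by
    rw [hval, fv_pair_hi L h hij hx hm hn ha, fv_pair_hi L h hij hx hm hn ha', sub_zero]
  have h2 : L.Ψ i v = 0 := by
    have h3 := L.zero_iff hm hv
    rw [hvX x hx] at h3
    exact h3.1 h1
  rw [hval, fv_pair_lo L h hij hx hm hn ha, fv_pair_lo L h hij hx hm hn ha', sub_eq_zero] at h2
  by_cases hA : Mv b a i j <;> by_cases hA' : Mv b a' i j
  · exact ⟨fun _ => hA', fun _ => hA⟩
  · exfalso
    rw [if_pos hA, if_neg hA'] at h2
    have h3 := congrFun h2 0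
    simp at h3
  · exfalso
    rw [if_neg hA, if_pos hA'] at h2
    have h3 := congrFun h2 0
    simp at h3
  · exact ⟨fun h3 => absurd h3 hA, fun h3 => absurd h3 hA'⟩

/-- **The key to the offender bound.** -/
theorem key [Finite K] [CharP K 2] [Finite b.I] (h : Off T X) (hnum : Function.Injective num) {a a' : P}
    (ha : a ∈ X) (ha' : a' ∈ X) {v : P} (hv : v ∈ WW P) (hvX : ∀ x ∈ X, x * v * x⁻¹ = v)
    (hval : ∀ i, L.Ψ i v = fv L X num a' i - fv L X num a i) : a⁻¹ * a' ∈ pCore 2 P := by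
  apply L.mem_Q (h.le (mul_mem (inv_mem ha) ha'))
  intro i
  by_cases hf : ∀ x ∈ X, Mv b x i i
  · obtain ⟨c, hc⟩ := fixed_acts L h hf ha
    obtain ⟨c', hc'⟩ := fixed_acts L h hf ha'
    have h1 := hc.inv.mul hc'
    have h2 : -c + c' = 0 := by
      by_cases hX : ∃ x ∈ X, ∃ d, d ≠ 0 ∧ L.Acts i x d
      · obtain ⟨x, hx, d, hd, hact⟩ := hX
        have h2 := hact v hv
        rw [hvX x hx] at h2
        have h3 := (fix_uu hd).1 h2.symm
        rw [hval, fv_fixed L hf hc, fv_fixed L hf hc', Pi.sub_apply] at h3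
        simp only [Matrix.cons_val_one] at h3
        rw [neg_add_eq_sub]
        exact h3
      · push Not at hX
        have h2 : c = 0 := by
          by_contra h3
          exact hX a ha c h3 hc
        have h3 : c' = 0 := by
          by_contra h3
          exact hX a' ha' c' h3 hc'
        rw [h2, h3, neg_zero, add_zero]
    rwa [h2] at h1
  · push Not at hf
    obtain ⟨x, hx, hxi⟩ := hf
    obtain ⟨j, hm⟩ := exists_mv (b := b) (h.le hx) i
    have hij : i ≠ j := by
      rintro rfl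
      exact hxi hm
    have hiff : Mv b a i j ↔ Mv b a' i j := by
      rcases lt_trichotomy (num i) (num j) with hn | hn | hn
      · exact pair_iff L h hij hx hm hn ha ha' hv hvX hval
      · exact absurd (hnum hn) hij
      · have h1 := pair_iff L h (Ne.symm hij) (inv_mem hx) hm.inv hn ha ha' hv hvX hval
        constructor
        · intro h2
          exact pair_swap L h (Ne.symm hij) (inv_mem hx) hm.inv ha' (h1.1 (pair_swap L h hij hx hm ha h2))
        · intro h2
          exact pair_swap L h (Ne.symm hij) (inv_mem hx) hm.inv ha (h1.2 (pair_swap L h hij hx hm ha' h2))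
    have hfix : Mv b (a⁻¹ * a') i i := by
      obtain ⟨k, hk⟩ := exists_mv (b := b) (h.le ha) i
      obtain ⟨k', hk'⟩ := exists_mv (b := b) (h.le ha') i
      have h3 : k = k' := by
        rcases pair_orbit L h hij hx hm ha hk with h4 | h4 <;> rcases pair_orbit L h hij hx hm ha' hk' with h5 | h5
        · rw [h4, h5]
        · rw [h5] at hk'
          exact hk.uniq (hiff.2 hk') |>.trans h5.symm
        · rw [h4] at hk
          exact h4.trans ((hiff.1 hk).uniq hk')
        · rw [h4, h5]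
      rw [← h3] at hk'
      exact hk'.mul hk.inv
    exact pair_acts L h hij hx hm (mul_mem (inv_mem ha) ha') hfix

/-- a section with `s 0 = 1` -/
theorem exists_section [Finite b.I] : ∃ s : (b.I → Fin 2 → K) → P, (∀ f, s f ∈ WW P) ∧ (∀ f i, L.Ψ i (s f) = f i) ∧
    s 0 = 1 := by
  classical
  have h1 : ∀ f : b.I → Fin 2 → K, ∃ w ∈ WW P, (∀ i, L.Ψ i w = f i) ∧ (f = 0 → w = 1) := by
    intro f
    by_cases hf : f = 0
    · exact ⟨1, one_mem _, fun i => by rw [L.zero, hf]; rfl, fun _ => rfl⟩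
    · obtain ⟨w, hw, hv⟩ := L.joint f
      exact ⟨w, hw, hv, fun h => absurd h hf⟩
  choose s hs hs' hs0 using h1
  exact ⟨s, hs, hs', hs0 0 rfl⟩

/-- the map of the cosets -/
noncomputable def cmap (X : Subgroup P) (s : P → P) (hs : ∀ a, s a ∈ WW P) :
    (X ⧸ (pCore 2 P ⊓ X).subgroupOf X) →
      (WW P ⧸ (WW P ⊓ centralizer (X : Set P)).subgroupOf (WW P)) :=
  fun q => QuotientGroup.mk ⟨s (q.out : X), hs _⟩

theorem cmap_injective [Finite K] [CharP K 2] [Finite b.I] (h : Off T X) (hnum : Function.Injective num)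
    {s : (b.I → Fin 2 → K) → P} (hs : ∀ f, s f ∈ WW P) (hs' : ∀ f i, L.Ψ i (s f) = f i) :
    Function.Injective (cmap X (fun a => s (fv L X num a)) (fun _ => hs _)) := by
  intro q q' hqq
  have h1 := QuotientGroup.eq.1 hqq
  rw [mem_subgroupOf] at h1
  have h2 : (s (fv L X num (q.out : X)))⁻¹ * s (fv L X num (q'.out : X)) ∈
      WW P ⊓ centralizer (X : Set P) := h1
  have h3 := key L h hnum (q.out : X).2 (q'.out : X).2 h2.1 (fun x hx => by
    rw [h2.2 x hx, mul_inv_cancel_right]) (fun i => by rw [L.div i (hs _) (hs _), hs', hs'])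
  rw [← q.out_eq, ← q'.out_eq, QuotientGroup.eq, mem_subgroupOf]
  exact ⟨h3, (((q.out : X))⁻¹ * (q'.out : X)).2⟩

include L in
/-- **The offender bound.** -/
theorem off_bound [Finite K] [CharP K 2] [Finite b.I] (h : Off T X) :
    (pCore 2 P ⊓ X).relIndex X ≤ (WW P ⊓ centralizer (X : Set P)).relIndex (WW P) := by
  obtain ⟨n, ⟨e⟩⟩ := Finite.exists_equiv_fin b.I
  obtain ⟨s, hs, hs', -⟩ := exists_section L
  exact Nat.card_le_card_of_injective _ (cmap_injective (num := fun i => (e i : ℕ)) L h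
    (fun i j hij => e.injective (Fin.ext hij)) hs hs')

/-- **Equality.** -/
theorem off_surj [Finite K] [CharP K 2] [Finite b.I] (h : Off T X) (hnum : Function.Injective num)
    {s : (b.I → Fin 2 → K) → P} (hs : ∀ f, s f ∈ WW P) (hs' : ∀ f i, L.Ψ i (s f) = f i)
    (hle : (WW P ⊓ centralizer (X : Set P)).relIndex (WW P) ≤ (pCore 2 P ⊓ X).relIndex X) {w : P} (hw : w ∈ WW P) :
    ∃ a ∈ X, (s (fv L X num a))⁻¹ * w ∈ WW P ∧ ∀ x ∈ X, x * ((s (fv L X num a))⁻¹ * w) * x⁻¹ =
      (s (fv L X num a))⁻¹ * w := by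
  have hbij := (cmap_injective L h hnum hs hs').bijective_of_nat_card_le hle
  obtain ⟨q, hq⟩ := hbij.2 (QuotientGroup.mk ⟨w, hw⟩)
  have h1 := QuotientGroup.eq.1 hq
  rw [mem_subgroupOf] at h1
  have h2 : (s (fv L X num (q.out : X)))⁻¹ * w ∈ WW P ⊓ centralizer (X : Set P) := h1
  exact ⟨q.out, (q.out : X).2, h2.1, fun x hx => by rw [h2.2 x hx, mul_inv_cancel_right]⟩

/-- the structure in the case of equality -/
structure EqD (X : Subgroup P) : Prop where
  acts : ∀ i, ∀ a ∈ X, ∃ c, L.Acts i a c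
  surj : ∀ γ : b.I → K, ∃ a ∈ X, ∀ i, L.Acts i a (γ i)
  cent : ∀ w ∈ WW P, (∀ i, L.Ψ i w 1 = 0) → w ∈ centralizer (X : Set P)

theorem exists_eqd [Finite K] [CharP K 2] [Finite b.I] (h : Off T X) (hX : ¬ X ≤ pCore 2 P)
    (hle : (WW P ⊓ centralizer (X : Set P)).relIndex (WW P) ≤ (pCore 2 P ⊓ X).relIndex X) : EqD L X := by
  obtain ⟨n, ⟨e⟩⟩ := Finite.exists_equiv_fin b.I
  set num : b.I → ℕ := fun i => (e i : ℕ) with hnumdef
  have hnum : Function.Injective num := fun i j hij => e.injective (Fin.ext hij)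
  obtain ⟨s, hs, hs', hs0⟩ := exists_section L
  have hsurj := fun {w : P} (hw : w ∈ WW P) => off_surj L h hnum hs hs' hle hw
  -- no block is moved
  have hnot : ∀ i j, i ≠ j → num i < num j → ∀ x ∈ X, ¬ Mv b x i j := by
    intro i j hij hn x hx hm
    obtain ⟨w, hw, hwv⟩ := (L.one i).ψsurj ![0, 1]
    have hwW := Wi_le_WW b i hw
    obtain ⟨a, ha, hv, hvX⟩ := hsurj hwW
    have h1 : L.Ψ j ((s (fv L X num a))⁻¹ * w) = 0 := by
      rw [L.div j (hs _) hwW, hs', fv_pair_hi L h hij hx hm hn ha, L.other (Ne.symm hij) hw, sub_zero]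
    have h2 : L.Ψ i ((s (fv L X num a))⁻¹ * w) = 0 := by
      have h3 := L.zero_iff hm hv
      rw [hvX x hx] at h3
      exact h3.1 h1
    rw [L.div i (hs _) hwW, hs', fv_pair_lo L h hij hx hm hn ha, hwv] at h2
    have h3 := congrFun h2 1
    by_cases h4 : Mv b a i j
    · rw [if_pos h4] at h3
      simp at h3
    · rw [if_neg h4] at h3
      simp at h3
  have hfix : ∀ i, ∀ x ∈ X, Mv b x i i := by
    intro i x hx
    obtain ⟨j, hm⟩ := exists_mv (b := b) (h.le hx) i
    by_cases hij : i = j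
    · rwa [← hij] at hm
    exfalso
    rcases lt_trichotomy (num i) (num j) with hn | hn | hn
    · exact hnot i j hij hn x hx hm
    · exact hij (hnum hn)
    · exact hnot j i (Ne.symm hij) hn x⁻¹ (inv_mem hx) hm.inv
  have hacts : ∀ i, ∀ a ∈ X, ∃ c, L.Acts i a c := fun i a ha => fixed_acts L h (hfix i) ha
  -- `X` acts nontrivially on every block
  have hnt : ∀ i, ∃ x ∈ X, ∃ d, d ≠ 0 ∧ L.Acts i x d := by
    by_contra hcon
    push Not at hcon
    obtain ⟨i₀, hi₀⟩ := hcon
    have h0 : ∀ x ∈ X, L.Acts i₀ x 0 := by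
      intro x hx
      obtain ⟨c, hc⟩ := hacts i₀ x hx
      by_cases hc0 : c = 0
      · rwa [hc0] at hc
      · exact absurd hc (hi₀ x hx c hc0)
    apply hX
    intro x hx
    apply L.mem_Q (h.le hx)
    intro i
    obtain ⟨t, ht, hti⟩ := b.trans i₀ i
    have hm : Mv b t i₀ i := hti
    rw [L.acts_zero_iff]
    intro w hw
    have h1 : t⁻¹ * x * t ∈ X := by
      have := (mem_normalizer_iff.1 (h.nor (inv_mem ht)) x).1 hx
      rwa [inv_inv] at this
    have h2 := (L.acts_zero_iff i₀ _).1 (h0 _ h1) (t⁻¹ * w * t) (by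
      have := conj_WW hw t⁻¹
      rwa [inv_inv] at this)
    have h3 := hm.cent h2
    have h4 : t * ⁅t⁻¹ * x * t, t⁻¹ * w * t⁆ * t⁻¹ = ⁅x, w⁆ := by
      simp only [commutatorElement_def]; group
    rwa [h4] at h3
  refine ⟨hacts, ?_, ?_⟩
  · intro γ
    obtain ⟨w, hw, hwv⟩ := L.joint (fun i => ![0, γ i])
    obtain ⟨a, ha, hv, hvX⟩ := hsurj hw
    refine ⟨a, ha, fun i => ?_⟩
    obtain ⟨c, hc⟩ := hacts i a ha
    obtain ⟨x, hx, d, hd, hact⟩ := hnt i
    have h2 := hact _ hv
    rw [hvX x hx] at h2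
    have h3 := (fix_uu hd).1 h2.symm
    rw [L.div i (hs _) hw, hs', fv_fixed L (hfix i) hc, hwv, Pi.sub_apply] at h3
    simp only [Matrix.cons_val_one] at h3
    rw [sub_eq_zero] at h3
    have h4 : γ i = c := h3
    rwa [h4]
  · intro w hw hw1
    obtain ⟨a, ha, hv, hvX⟩ := hsurj hw
    have h0 : fv L X num a = 0 := by
      funext i
      obtain ⟨c, hc⟩ := hacts i a ha
      obtain ⟨x, hx, d, hd, hact⟩ := hnt i
      have h2 := hact _ hv
      rw [hvX x hx] at h2
      have h3 := (fix_uu hd).1 h2.symm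
      rw [L.div i (hs _) hw, hs', fv_fixed L (hfix i) hc, Pi.sub_apply, hw1] at h3
      simp only [Matrix.cons_val_one, zero_sub, neg_eq_zero] at h3
      have h4 : c = 0 := h3
      rw [fv_fixed L (hfix i) hc, h4]
      funext k
      fin_cases k <;> rfl
    rw [h0, hs0, inv_one, one_mul] at hvX
    intro x hx
    have h1 := hvX x hx
    rw [mul_inv_eq_iff_eq_mul] at h1
    exact h1

end

end Cfsg.Agent.H880.HM
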