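import Cfsg.Agent.H880.HM.LinE

/-!
# S5175, T4/T5 linear part, F (for helper756): the subgroup `T₀` and the block data

* `TT L` : the elements of `T` acting as unitriangular matrices on all blocks; `AA`, `BB`;
* `linOne` : one block: `LinOne`;
* `exists_bd` : the block data.
-/

set_option autoImplicit false
set_option linter.unusedSectionVars false

namespace Cfsg.Agent.H880.HM

open Cfsg Subgroup Cfsg.Agent.H756.HM
open scoped commutatorElement

universe u

section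

variable {P : Type u} [Group P] [Finite P] {T : Sylow 2 P} {b : Blk (T : Subgroup P)} {K : Type} [Field K]
  (L : LD b K) {X : Subgroup P}

/-- the subgroup `T₀` -/
def TT : Subgroup P where
  carrier := {t | t ∈ (T : Subgroup P) ∧ ∀ i, ∃ c, L.Acts i t c}
  one_mem' := ⟨one_mem _, fun i => ⟨0, LD.Acts.one i⟩⟩
  mul_mem' := by
    rintro x y ⟨hx, hx'⟩ ⟨hy, hy'⟩
    refine ⟨mul_mem hx hy, fun i => ?_⟩
    obtain ⟨c, hc⟩ := hx' i
    obtain ⟨d, hd⟩ := hy' i
    exact ⟨_, hc.mul hd⟩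
  inv_mem' := by
    rintro x ⟨hx, hx'⟩
    refine ⟨inv_mem hx, fun i => ?_⟩
    obtain ⟨c, hc⟩ := hx' i
    exact ⟨_, hc.inv⟩

theorem mem_TT {t : P} : t ∈ TT L ↔ t ∈ (T : Subgroup P) ∧ ∀ i, ∃ c, L.Acts i t c := Iff.rfl

/-- the elements of `T₀` acting trivially on all blocks but `j` -/
def AA (j : b.I) : Subgroup P where
  carrier := {t | t ∈ TT L ∧ ∀ k, k ≠ j → L.Acts k t 0}
  one_mem' := ⟨one_mem _, fun i _ => LD.Acts.one i⟩
  mul_mem' := by
    rintro x y ⟨hx, hx'⟩ ⟨hy, hy'⟩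
    refine ⟨mul_mem hx hy, fun i hi => ?_⟩
    have h1 := (hx' i hi).mul (hy' i hi)
    rwa [add_zero] at h1
  inv_mem' := by
    rintro x ⟨hx, hx'⟩
    refine ⟨inv_mem hx, fun i hi => ?_⟩
    have h1 := (hx' i hi).inv
    rwa [neg_zero] at h1

/-- the elements of `T₀` acting trivially on the block `j` -/
def BB (j : b.I) : Subgroup P where
  carrier := {t | t ∈ TT L ∧ L.Acts j t 0}
  one_mem' := ⟨one_mem _, LD.Acts.one j⟩
  mul_mem' := by
    rintro x y ⟨hx, hx'⟩ ⟨hy, hy'⟩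
    refine ⟨mul_mem hx hy, ?_⟩
    have h1 := hx'.mul hy'
    rwa [add_zero] at h1
  inv_mem' := by
    rintro x ⟨hx, hx'⟩
    refine ⟨inv_mem hx, ?_⟩
    have h1 := hx'.inv
    rwa [neg_zero] at h1

theorem mem_AA {j : b.I} {t : P} : t ∈ AA L j ↔ t ∈ TT L ∧ ∀ k, k ≠ j → L.Acts k t 0 := Iff.rfl

theorem mem_BB {j : b.I} {t : P} : t ∈ BB L j ↔ t ∈ TT L ∧ L.Acts j t 0 := Iff.rfl

theorem Q_le_TT : pCore 2 P ≤ TT L := fun _ hg => ⟨Q_le_T hg, fun i => ⟨0, L.acts_Q i hg⟩⟩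

theorem Q_le_AA (j : b.I) : pCore 2 P ≤ AA L j := fun _ hg => ⟨Q_le_TT L hg, fun k _ => L.acts_Q k hg⟩

theorem Q_le_BB (j : b.I) : pCore 2 P ≤ BB L j := fun _ hg => ⟨Q_le_TT L hg, L.acts_Q j hg⟩

/-- elements of `T ∩ E_j` -/
theorem exists_E (j : b.I) (c : K) : ∃ e ∈ b.E j, e ∈ AA L j ∧ L.Acts j e c := by
  obtain ⟨e, he, heT, hec⟩ := (L.one j).UT c
  have h1 : L.Acts j e c := L.acts_E he hec
  refine ⟨e, he, ⟨⟨heT, fun i => ?_⟩, fun k hk => L.acts_other hk he⟩, h1⟩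
  by_cases hij : i = j
  · rw [hij]; exact ⟨c, h1⟩
  · exact ⟨0, L.acts_other hij he⟩

/-- the character of `T₀` at a block -/
noncomputable def ch [Finite b.I] (i : b.I) : TT L →* Multiplicative K where
  toFun t := Multiplicative.ofAdd (t.2.2 i).choose
  map_one' := by
    have h1 := ((1 : TT L).2.2 i).choose_spec
    have h2 := h1.uniq (LD.Acts.one (L := L) i)
    rw [h2]
    rfl
  map_mul' s t := by
    have h1 := ((s * t).2.2 i).choose_spec
    have h2 := h1.uniq ((s.2.2 i).choose_spec.mul (t.2.2 i).choose_spec)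
    rw [h2]
    rfl

theorem ch_spec [Finite b.I] (i : b.I) (t : TT L) : L.Acts i t (Multiplicative.toAdd (ch L i t)) :=
  (t.2.2 i).choose_spec

theorem ch_eq_one [Finite b.I] (i : b.I) (t : TT L) : ch L i t = 1 ↔ L.Acts i (t : P) 0 := by
  constructor
  · intro h
    have h1 := ch_spec L i t
    rw [h] at h1
    exact h1
  · intro h
    have h1 := (ch_spec L i t).uniq h
    exact h1

theorem ch_surj [Finite b.I] (i : b.I) (c : K) : ∃ e : TT L, (e : P) ∈ AA L i ∧ (e : P) ∈ b.E i ∧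
    ch L i e = Multiplicative.ofAdd c := by
  obtain ⟨e, he, heA, hec⟩ := exists_E L i c
  refine ⟨⟨e, heA.1⟩, heA, he, ?_⟩
  have h1 := (ch_spec L i ⟨e, heA.1⟩).uniq hec
  exact h1

theorem relIndex_BB [Finite b.I] [Fintype K] (j : b.I) : (BB L j).relIndex (TT L) = Fintype.card K := by
  have h1 : (BB L j).subgroupOf (TT L) = (ch L j).ker := by
    ext t
    rw [mem_subgroupOf, MonoidHom.mem_ker, ch_eq_one, mem_BB]
    exact ⟨fun h => h.2, fun h => ⟨t.2, h⟩⟩
  have h2 : (ch L j).range = ⊤ := by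
    rw [MonoidHom.range_eq_top]
    intro c
    obtain ⟨e, -, -, he⟩ := ch_surj L j (Multiplicative.toAdd c)
    exact ⟨e, he⟩
  rw [relIndex, h1, Subgroup.index_ker, h2, Subgroup.card_top, Nat.card_congr Multiplicative.toAdd,
    Nat.card_eq_fintype_card]

theorem AA_le (j : b.I) : AA L j ≤ TT L := fun _ h => h.1

theorem BB_le (j : b.I) : BB L j ≤ TT L := fun _ h => h.1

theorem mem_Q_of_AA {j : b.I} {t : P} (ht : t ∈ AA L j) (h : L.Acts j t 0) : t ∈ pCore 2 P := by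
  apply L.mem_Q ht.1.1
  intro i
  by_cases hij : i = j
  · rw [hij]; exact h
  · exact ht.2 i hij

theorem relIndex_AA [Finite b.I] [Fintype K] (j : b.I) : (pCore 2 P).relIndex (AA L j) = Fintype.card K := by
  set f : AA L j →* Multiplicative K := (ch L j).comp (Subgroup.inclusion (AA_le L j)) with hf
  have h1 : (pCore 2 P).subgroupOf (AA L j) = f.ker := by
    ext t
    rw [mem_subgroupOf, MonoidHom.mem_ker, hf, MonoidHom.comp_apply, ch_eq_one]
    exact ⟨fun h => L.acts_Q j h, fun h => mem_Q_of_AA L t.2 h⟩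
  have h2 : f.range = ⊤ := by
    rw [MonoidHom.range_eq_top]
    intro c
    obtain ⟨e, heA, -, he⟩ := ch_surj L j (Multiplicative.toAdd c)
    exact ⟨⟨e, heA⟩, he⟩
  rw [relIndex, h1, Subgroup.index_ker, h2, Subgroup.card_top, Nat.card_congr Multiplicative.toAdd,
    Nat.card_eq_fintype_card]

/-- `T₀ = A_j B_j` -/
theorem AA_sup_BB (j : b.I) : AA L j ⊔ BB L j = TT L := by
  apply le_antisymm (sup_le (AA_le L j) (BB_le L j))
  intro t ht
  obtain ⟨c, hc⟩ := ht.2 j
  obtain ⟨e, he, heA, hec⟩ := exists_E L j c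
  have h1 : e⁻¹ * t ∈ BB L j := by
    refine ⟨mul_mem (inv_mem heA.1) ht, ?_⟩
    have h2 := hec.inv.mul hc
    rwa [neg_add_cancel] at h2
  have h2 : t = e * (e⁻¹ * t) := by group
  rw [h2]
  exact mul_mem ((le_sup_left : AA L j ≤ _) heA) ((le_sup_right : BB L j ≤ _) h1)

/-- elements of `A_j` are in `(T ∩ E_j) Q` -/
theorem AA_decomp {j : b.I} {t : P} (ht : t ∈ AA L j) : ∃ e ∈ b.E j, e ∈ (T : Subgroup P) ∧ e⁻¹ * t ∈ pCore 2 P := by
  obtain ⟨c, hc⟩ := ht.1.2 j
  obtain ⟨e, he, heA, hec⟩ := exists_E L j c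
  refine ⟨e, he, heA.1.1, mem_Q_of_AA L (mul_mem (inv_mem heA) ht) ?_⟩
  have h2 := hec.inv.mul hc
  rwa [neg_add_cancel] at h2

/-- `[W_j, B_j] = 1` -/
theorem WB_comm [Finite b.I] {j : b.I} {w t : P} (hw : w ∈ ⁅pCore 2 P, b.E j⁆) (ht : t ∈ BB L j) : w * t = t * w := by
  classical
  have : Fintype b.I := Fintype.ofFinite _
  have key : ∀ s : Finset b.I, j ∉ s → ∀ t ∈ TT L, (∀ i, i ∉ s → L.Acts i t 0) → w * t = t * w := by
    intro s
    induction s using Finset.induction_on with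
    | empty =>
      intro _ t ht h
      exact W_commQ b (Wi_le_WW b j hw) (L.mem_Q ht.1 fun i => h i (Finset.notMem_empty i))
    | insert k s hk ih =>
      intro hj t ht h
      rw [Finset.mem_insert, not_or] at hj
      obtain ⟨c, hc⟩ := ht.2 k
      obtain ⟨e, he, heA, hec⟩ := exists_E L k c
      have h1 := ih hj.2 (e⁻¹ * t) (mul_mem (inv_mem heA.1) ht) (fun i hi => by
        by_cases hik : i = k
        · rw [hik]
          have h2 := hec.inv.mul hc
          rwa [neg_add_cancel] at h2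
        · have h2 := (heA.2 i hik).inv.mul (h i (by
            rw [Finset.mem_insert, not_or]
            exact ⟨hik, hi⟩))
          rwa [neg_zero, add_zero] at h2)
      have h2 : w * e = e * w := EW_comm b hj.1 hw he
      calc w * t = (w * e) * (e⁻¹ * t) := by group
        _ = e * (w * (e⁻¹ * t)) := by rw [h2]; group
        _ = t * w := by rw [h1]; group
  exact key (Finset.univ.erase j) (Finset.notMem_erase j _) t ht.1 (fun i hi => by
    have h1 : i = j := by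
      by_contra h2
      exact hi (Finset.mem_erase.2 ⟨h2, Finset.mem_univ i⟩)
    rw [h1]
    exact ht.2)

/-- `E_j` centralizes `[W, B_j]` -/
theorem EB_comm {j : b.I} {w t e : P} (hw : w ∈ WW P) (ht : t ∈ BB L j) (he : e ∈ b.E j) :
    e * ⁅w, t⁆ = ⁅w, t⁆ * e := by
  have h1 := (L.acts_zero_iff j t).1 ht.2 w hw
  have h2 : ⁅w, t⁆ = ⁅t, w⁆⁻¹ := (commutatorElement_inv t w).symm
  rw [h2]
  exact (inv_mem h1) e he

/-- `C_{T/Q}(T₀/Q) ≤ T₀/Q` -/
theorem cent_TT [Finite K] [CharP K 2] {t : P} (ht : t ∈ (T : Subgroup P)) (h : ∀ a ∈ TT L, ⁅t, a⁆ ∈ pCore 2 P) :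
    t ∈ TT L := by
  refine ⟨ht, fun i => ?_⟩
  have hm : Mv b t i i := by
    obtain ⟨j, hj⟩ := exists_mv (b := b) ht i
    by_cases hij : i = j
    · rwa [← hij] at hj
    exfalso
    obtain ⟨e, he, heA, hec⟩ := exists_E L i 1
    have h1 : L.Acts i (⁅t, e⁆ * e) (0 + 1) := (L.acts_Q i (h e heA.1)).mul hec
    have h2 : ⁅t, e⁆ * e = t * e * t⁻¹ := by rw [commutatorElement_def]; group
    rw [h2] at h1
    have h3 : L.Acts i (t * e * t⁻¹) 0 := L.acts_other hij (hj.mem he)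
    obtain ⟨w, hw, hv⟩ := (L.one i).ψsurj ![0, 1]
    have h4 := h1 w (Wi_le_WW b i hw)
    rw [h3 w (Wi_le_WW b i hw), hv, uu_zero, sm_one] at h4
    have h5 := congrFun h4 0
    rw [sm_uu_zero] at h5
    simp at h5
  apply L.acts_of_comm ht hm
  intro e he heT
  apply L.acts_Q
  apply h
  obtain ⟨c, hc⟩ := (L.one i).TU e he heT
  refine ⟨heT, fun k => ?_⟩
  by_cases hki : k = i
  · rw [hki]; exact ⟨c, L.acts_E he hc⟩
  · exact ⟨0, L.acts_other hki he⟩

/-- `X Q = T₀` in the case of equality -/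
theorem sup_eq_TT [Finite b.I] (h : Off T X) (D : EqD L X) : X ⊔ pCore 2 P = TT L := by
  apply le_antisymm
  · exact sup_le (fun x hx => ⟨h.le hx, fun i => D.acts i x hx⟩) (Q_le_TT L)
  · intro t ht
    obtain ⟨a, ha, hact⟩ := D.surj fun i => (ht.2 i).choose
    have h1 : a⁻¹ * t ∈ pCore 2 P := by
      apply L.mem_Q (mul_mem (inv_mem (h.le ha)) ht.1)
      intro i
      have h2 := (hact i).inv.mul (ht.2 i).choose_spec
      rwa [neg_add_cancel] at h2
    have h2 : t = a * (a⁻¹ * t) := by group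
    rw [h2]
    exact mul_mem ((le_sup_left : X ≤ _) ha) ((le_sup_right : pCore 2 P ≤ _) h1)

/-- `C_W(T₀)` in the case of equality -/
theorem cent_iff [Finite b.I] (h : Off T X) (D : EqD L X) {w : P} (hw : w ∈ WW P) :
    w ∈ centralizer (TT L : Set P) ↔ ∀ i, L.Ψ i w 1 = 0 := by
  constructor
  · intro h1 i
    obtain ⟨e, he, heA, hec⟩ := exists_E L i 1
    have h2 := h1 e heA.1
    have h3 := hec w hw
    rw [h2, mul_inv_cancel_right] at h3
    exact (fix_uu one_ne_zero).1 h3.symm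
  · intro h1
    have h2 := D.cent w hw h1
    rw [← sup_eq_TT L h D]
    have h3 : X ⊔ pCore 2 P ≤ centralizer ({w} : Set P) := by
      refine sup_le (fun x hx => ?_) (fun g hg => ?_)
      · rw [mem_centralizer_singleton_iff]
        exact h2 x hx
      · rw [mem_centralizer_singleton_iff]
        exact (W_commQ b hw hg).symm
    intro x hx
    have h4 := h3 hx
    rw [mem_centralizer_singleton_iff] at h4
    exact h4

/-- `C_W(a)` for `a ∈ A_j \ Q` -/
theorem cent_a [Finite b.I] (h : Off T X) (D : EqD L X) {j : b.I} {a : P} (ha : a ∈ AA L j) (haQ : a ∉ pCore 2 P)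
    {w : P} (hw : w ∈ WW P) : w ∈ centralizer ({a} : Set P) ↔ L.Ψ j w 1 = 0 := by
  rw [mem_centralizer_singleton_iff]
  obtain ⟨c, hc⟩ := ha.1.2 j
  have hc0 : c ≠ 0 := by
    rintro rfl
    exact haQ (mem_Q_of_AA L ha hc)
  constructor
  · intro h1
    have h2 := hc w hw
    rw [← h1, mul_inv_cancel_right] at h2
    exact (fix_uu hc0).1 h2.symm
  · intro h1
    obtain ⟨x, hx, y, hy, hy', rfl⟩ := decomp b j hw
    have hxW := Wi_le_WW b j hx
    have h2 : L.Ψ j y = 0 := ((L.one j).ψker y hy).2 hy'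
    rw [(L.one j).ψmul _ hxW _ hy, h2, add_zero] at h1
    have h3 : x ∈ centralizer (TT L : Set P) := by
      rw [cent_iff L h D hxW]
      intro i
      by_cases hij : i = j
      · rw [hij]; exact h1
      · rw [L.other hij hx]; rfl
    have h4 : a * x = x * a := h3 a ha.1
    obtain ⟨e, he, heT, hg⟩ := AA_decomp L ha
    have h5 : a * y = y * a := by
      have h6 : e * y = y * e := hy' e he
      have h7 : y * (e⁻¹ * a) = (e⁻¹ * a) * y := W_commQ b hy hg
      calc a * y = e * ((e⁻¹ * a) * y) := by group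
        _ = e * y * (e⁻¹ * a) := by rw [← h7]; group
        _ = y * a := by rw [h6]; group
    rw [mul_assoc, ← h5, ← mul_assoc, ← h4, mul_assoc]

/-- the index of `C_W(a)` -/
theorem index_a [Finite b.I] [Fintype K] (h : Off T X) (D : EqD L X) {j : b.I} {a : P} (ha : a ∈ AA L j)
    (haQ : a ∉ pCore 2 P) :
    (WW P ⊓ centralizer ({a} : Set P)).relIndex (WW P) = Fintype.card K := by
  let f : WW P →* Multiplicative K :=
    { toFun := fun w => Multiplicative.ofAdd (L.Ψ j w 1)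
      map_one' := by
        show Multiplicative.ofAdd (L.Ψ j 1 1) = 1
        rw [L.zero]
        rfl
      map_mul' := fun w w' => by
        show Multiplicative.ofAdd (L.Ψ j ((w : P) * w') 1) = _
        rw [(L.one j).ψmul _ w.2 _ w'.2]
        rfl }
  have h1 : (WW P ⊓ centralizer ({a} : Set P)).subgroupOf (WW P) = f.ker := by
    ext w
    rw [mem_subgroupOf, MonoidHom.mem_ker]
    have h2 := cent_a L h D ha haQ w.2
    constructor
    · intro h3
      have h4 := h2.1 h3.2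
      show Multiplicative.ofAdd (L.Ψ j w 1) = 1
      rw [h4]
      rfl
    · intro h3
      exact ⟨w.2, h2.2 h3⟩
  have h2 : f.range = ⊤ := by
    rw [MonoidHom.range_eq_top]
    intro c
    obtain ⟨w, hw, hv⟩ := (L.one j).ψsurj ![0, Multiplicative.toAdd c]
    refine ⟨⟨w, Wi_le_WW b j hw⟩, ?_⟩
    show Multiplicative.ofAdd (L.Ψ j w 1) = c
    rw [hv]
    rfl
  rw [relIndex, h1, Subgroup.index_ker, h2, Subgroup.card_top, Nat.card_congr Multiplicative.toAdd,
    Nat.card_eq_fintype_card]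

include L in
/-- irreducibility -/
theorem irr_E {j : b.I} {Y : Subgroup P} (hY : Y ≤ pCore 2 P) (hn : b.E j ≤ normalizer (Y : Set P))
    (hc : ¬ Y ≤ centralizer (b.E j : Set P)) : ⁅pCore 2 P, b.E j⁆ ≤ Y := by
  have := fact2
  have hYp : IsPGroup 2 Y := (Lib.Cores.pCore_isPGroup (G := P) 2).to_le hY
  have h1 : ⁅Y, b.E j⁆ ≤ Y := H259.Block.commutator_le_of_norm hn
  have h2 : ⁅Y, b.E j⁆ ≤ ⁅pCore 2 P, b.E j⁆ := commutator_mono hY le_rfl
  obtain ⟨y, hy, hy'⟩ : ∃ y ∈ ⁅Y, b.E j⁆, y ∉ centralizer (b.E j : Set P) := by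
    by_contra hcon
    push Not at hcon
    have h3 : ⁅⁅Y, b.E j⁆, b.E j⁆ = ⊥ := commutator_eq_bot_iff_le_centralizer.2 hcon
    have h4 := H259.Block.commutator_eq_bot_of_commutator hYp (b.two j) hn h3
    exact hc (commutator_eq_bot_iff_le_centralizer.1 h4)
  have hyW := Wi_le_WW b j (h2 hy)
  have hy0 : L.Ψ j y ≠ 0 := fun h3 => hy' (((L.one j).ψker y hyW).1 h3)
  -- every value is attained on `Y ∩ W_j`
  have hval : ∀ v, ∃ x ∈ Y, x ∈ ⁅pCore 2 P, b.E j⁆ ∧ L.Ψ j x = v := by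
    intro v
    by_cases hv : v = 0
    · exact ⟨1, one_mem _, one_mem _, by rw [L.zero, hv]⟩
    obtain ⟨m, hm⟩ := exists_sm_e hy0
    obtain ⟨m', hm'⟩ := exists_sm_e hv
    obtain ⟨e, he, hem⟩ := (L.one j).ρsurj (m' * m⁻¹)
    refine ⟨e * y * e⁻¹, (mem_normalizer_iff.1 (hn he) y).1 (h1 hy), conjE_Wi b he (h2 hy), ?_⟩
    rw [(L.one j).equi e he y hyW, hem, sm_mul, ← hm, sm_inv_sm, hm']
  rw [← b.perf j, commutator_le]
  intro w hw e he
  obtain ⟨x, hxY, hxW, hx⟩ := hval (L.Ψ j w)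
  have hwW := Wi_le_WW b j hw
  have hxW' := Wi_le_WW b j hxW
  have h3 : x⁻¹ * w ∈ centralizer (b.E j : Set P) := by
    rw [← (L.one j).ψker _ (mul_mem (inv_mem hxW') hwW), L.div j hxW' hwW, hx, sub_self]
  have h4 : (x⁻¹ * w) * e = e * (x⁻¹ * w) := (h3 e he).symm
  have h5 : ⁅w, e⁆ = ⁅x, e⁆ := by
    rw [commutatorElement_def, commutatorElement_def]
    calc w * e * w⁻¹ * e⁻¹ = x * ((x⁻¹ * w) * e) * w⁻¹ * e⁻¹ := by group
      _ = x * (e * (x⁻¹ * w)) * w⁻¹ * e⁻¹ := by rw [h4]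
      _ = x * e * x⁻¹ * e⁻¹ := by group
  rw [h5]
  have h6 : ⁅x, e⁆ = x * (e * x⁻¹ * e⁻¹) := by rw [commutatorElement_def]; group
  rw [h6]
  exact mul_mem hxY ((mem_normalizer_iff.1 (hn he) _).1 (inv_mem hxY))

end

end Cfsg.Agent.H880.HM
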